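import Groth.Agent.ProZeroLib.Lift
import Groth.Agent.StalkHomLib.StalkExt
import Groth.Agent.PullbackMod.SuppClosed
import Groth.Agent.HorrocksPnLib.Core
import Groth.Agent.ModTensor.Sheaf

/-!
# Classes killed by powers of a section
-/

set_option autoImplicit false
set_option backward.isDefEq.respectTransparency false
set_option linter.style.haveILetI false

universe u

open CategoryTheory CategoryTheory.Limits AlgebraicGeometry TopologicalSpace
open Groth.Agent.PullbackMod Groth.Agent.DCohLib
open Groth.Agent.StalkHomLib (hF unitMap)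

noncomputable section

namespace Groth.Agent.ProZeroLib

variable {X : Scheme.{u}}

/-- `a` is invertible at `x`. -/
abbrev Good {A : X.Modules} (a : A ⟶ Coh.structureModule X) (x : X) : Prop := Function.Surjective (aev a x)

theorem subsingleton_stalk_cokernel {M' M : X.Modules} (π : M' ⟶ M) {x : X}
    (h : Function.Surjective (stalkLin π x)) : Subsingleton ((cokernel π).presheaf.stalk x) := by
  refine subsingleton_of_forall_eq 0 fun z => ?_
  obtain ⟨m, rfl⟩ := (epi_iff_stalk (cokernel.π π)).1 inferInstance x z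
  rw [stalkLin_cokernel_eq_zero π h]
  rfl

theorem surjective_of_subsingleton_cokernel {M' M : X.Modules} (π : M' ⟶ M) {x : X}
    [Subsingleton ((cokernel π).presheaf.stalk x)] : Function.Surjective (stalkLin π x) := fun m =>
  (DCohLib.exact_stalkLin (ShortComplex.mk π (cokernel.π π) (cokernel.condition π))
    (ShortComplex.exact_of_g_is_cokernel _ (cokernelIsCokernel π)) x m).1 (Subsingleton.elim _ _)

variable (k : Type u) [Field k] [X.Over (Spec (CommRingCat.of k))] [IsProper (X ↘ Spec (CommRingCat.of k))]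

include k in
/-- A coherent module without stalks at closed points where `a` is invertible has none where it is invertible. -/
theorem subsingleton_of_closed_good {A : X.Modules} (hA : PicF.IsInvertible A) (a : A ⟶ Coh.structureModule X)
    {M : X.Modules} (hM : Coh.IsCoh M)
    (h : ∀ x : X, IsClosed ({x} : Set X) → Good a x → Subsingleton (M.presheaf.stalk x)) {x : X} (hx : Good a x) :
    Subsingleton (M.presheaf.stalk x) := by
  haveI := EulerIneqLib.isNoetherian_proper (X := X) k
  haveI : JacobsonSpace X := LocallyOfFiniteType.jacobsonSpace (X ↘ Spec (CommRingCat.of k))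
  by_contra hns
  have hC := (QCohLib.isCoh_kernel_cokernel a (CurveLib.isCoh_of_isInvertible hA) (DevLib.isCoh_structureModule X)).2
  have hx' : x ∉ CohB1.support (cokernel a) := fun h0 =>
    h0 (subsingleton_stalk_cokernel a ((surjective_aev_iff a x).1 hx))
  have hS : IsLocallyClosed (CohB1.support M ∩ (CohB1.support (cokernel a))ᶜ) :=
    (isClosed_support_of_isFT hM.2).isLocallyClosed.inter (isClosed_support_of_isFT hC.2).isOpen_compl.isLocallyClosed
  obtain ⟨y, ⟨hy1, hy2⟩, hy⟩ := nonempty_inter_closedPoints (Z := CohB1.support M ∩ (CohB1.support (cokernel a))ᶜ)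
    ⟨x, hns, hx'⟩ hS
  refine hy1 (h y hy ((surjective_aev_iff a y).2 ?_))
  haveI : Subsingleton ((cokernel a).presheaf.stalk y) := not_not.1 hy2
  exact surjective_of_subsingleton_cokernel a

include k in
theorem surjective_of_closed_good {A : X.Modules} (hA : PicF.IsInvertible A) (a : A ⟶ Coh.structureModule X)
    {M' M : X.Modules} (hM' : Coh.IsCoh M') (hM : Coh.IsCoh M) (π : M' ⟶ M)
    (h : ∀ x : X, IsClosed ({x} : Set X) → Good a x → Function.Surjective (stalkLin π x)) {x : X} (hx : Good a x) :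
    Function.Surjective (stalkLin π x) := by
  haveI := EulerIneqLib.isNoetherian_proper (X := X) k
  haveI := subsingleton_of_closed_good k hA a (QCohLib.isCoh_kernel_cokernel π hM' hM).2
    (fun y hy hy' => subsingleton_stalk_cokernel π (h y hy hy')) hx
  exact surjective_of_subsingleton_cokernel π

variable {L A : X.Modules} (hLA : AmplePair L A) (a : A ⟶ Coh.structureModule X)

include k hLA in
/-- Over the free locus a presentation splits after multiplying by a power of `a`. -/
theorem exists_split {E G : X.Modules} (hE : Coh.IsCoh E) (hG : Coh.IsCoh G) (π : E ⟶ G) [Epi π]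
    (hfree : ∀ x : X, IsClosed ({x} : Set X) → Good a x → Module.Free (X.presheaf.stalk x) (G.presheaf.stalk x)) :
    ∃ t₀ : ℕ, ∀ t, t₀ ≤ t → ∃ σ : tmod (CohB1.tensorPow A t) G ⟶ E, σ ≫ π = act (aPow a t) G := by
  haveI := EulerIneqLib.isNoetherian_proper (X := X) k
  haveI : ModSite.HasSheafHom (O := X.sheaf) G := ModTensor.hasSheafHom (O := X.sheaf) G
  haveI := hE.1
  haveI := hG.1
  let adj := ModSite.sheafHomAdj (O := X.sheaf) G
  let u : Coh.structureModule X ⟶ (hF G).obj G := adj.homEquiv _ _ (unitMap G)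
  have hsurj : ∀ x : X, IsClosed ({x} : Set X) → Good a x →
      Function.Surjective (stalkLin ((hF G).map π) x) := by
    intro x hx hx' z
    haveI := hfree x hx hx'
    obtain ⟨l, hl⟩ := Module.projective_lifting_property (stalkLin π x) (StalkHomLib.theta G G x z) ((epi_iff_stalk π).1 inferInstance x)
    obtain ⟨z', hz'⟩ := (StalkHomLib.theta_bijective G (x := x) hG E).2 l
    refine ⟨z', (StalkHomLib.theta_bijective G (x := x) hG G).1 (LinearMap.ext fun g => ?_)⟩
    rw [StalkHomLib.theta_natural, hz', ← hl]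
    rfl
  obtain ⟨t₀, ht₀⟩ := exists_lift k hLA a (StalkHomLib.isCoh_hF G E hG hE) (StalkHomLib.isCoh_hF G G hG hG)
    ((hF G).map π) u (fun x hx => surjective_of_closed_good k hLA.invertible a (StalkHomLib.isCoh_hF G E hG hE)
      (StalkHomLib.isCoh_hF G G hG hG) _ hsurj hx)
  refine ⟨t₀, fun t ht => ?_⟩
  obtain ⟨w, hw⟩ := ht₀ t ht
  refine ⟨(adj.homEquiv _ _).symm w, ?_⟩
  refine (adj.homEquiv_naturality_right_symm w π).symm.trans ?_
  rw [hw, Adjunction.homEquiv_naturality_left_symm]
  exact congrArg (_ ≫ ·) (Equiv.symm_apply_apply _ _)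

/-- Some power of `a` acts by zero on cohomology. -/
def Dead (G : X.Modules) (j : ℕ) : Prop :=
  ∃ t₀ : ℕ, ∀ t, t₀ ≤ t → ∀ z : Coh.HH X (tmod (CohB1.tensorPow A t) G) j,
    CurveLib.hMap (k := k) (act (aPow a t) G) j z = 0

include k hLA in
theorem dead_of_free {E G : X.Modules} (hE : Coh.IsCoh E) (hG : Coh.IsCoh G) (π : E ⟶ G) [Epi π] (j : ℕ)
    [Subsingleton (Coh.HH X E j)]
    (hfree : ∀ x : X, IsClosed ({x} : Set X) → Good a x → Module.Free (X.presheaf.stalk x) (G.presheaf.stalk x)) :
    Dead k a G j := by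
  obtain ⟨t₀, ht₀⟩ := exists_split k hLA a hE hG π hfree
  refine ⟨t₀, fun t ht z => ?_⟩
  obtain ⟨σ, hσ⟩ := ht₀ t ht
  rw [← hσ, HorrocksPnLib.hMap_comp k, Subsingleton.elim (CurveLib.hMap (k := k) σ j z) 0, map_zero]

include k hLA in
theorem dead_of_zero {G : X.Modules} (hG : Coh.IsCoh G) (j : ℕ)
    (h0 : ∀ x : X, IsClosed ({x} : Set X) → Good a x → Subsingleton (G.presheaf.stalk x)) : Dead k a G j := by
  haveI := EulerIneqLib.isNoetherian_proper (X := X) k
  obtain ⟨t₀, ht₀⟩ := exists_kill a hLA.invertible hG (𝟙 G) fun x hx => by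
    haveI := subsingleton_of_closed_good k hLA.invertible a hG h0 hx
    exact LinearMap.ext fun _ => Subsingleton.elim _ _
  refine ⟨t₀, fun t ht z => ?_⟩
  have h := ht₀ t ht
  rw [Category.comp_id] at h
  rw [h, HorrocksPnLib.hMap_zero k]

instance additive_tensorBi_obj (B : X.Modules) : ((DCoh.tensorBi (X := X)).obj B).Additive :=
  haveI : ((ModSite.tensorBi X.sheaf).flip.obj B).Additive := CurveLib.additive_tensR B
  Functor.additive_of_iso (G := (DCoh.tensorBi (X := X)).obj B) ((DCohLib.symmIso X.sheaf).app B).symm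

/-- Tensoring on the left with an invertible module is exact. -/
theorem shortExact_tens {S : ShortComplex X.Modules} (hS : S.ShortExact) {B : X.Modules} (hB : PicF.IsInvertible B) :
    (S.map ((DCoh.tensorBi (X := X)).obj B)).ShortExact :=
  haveI : ((ModSite.tensorBi X.sheaf).obj B).Additive := additive_tensorBi_obj B
  haveI : ((ModSite.tensorBi X.sheaf).flip.obj B).Additive := CurveLib.additive_tensR B
  ShortComplex.shortExact_of_iso (S.mapNatIso ((DCohLib.symmIso X.sheaf).app B)).symm
    (CurveLib.shortExact_tensR hS (CurveLib.freeAt_one_of_isInvertible hB))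

/-- A map of short complexes, on underlying abelian sheaves. -/
def mapSeq {S S' : ShortComplex X.Modules} (θ : S' ⟶ S) : S'.map (QCohLib.toAbF X) ⟶ S.map (QCohLib.toAbF X) :=
  ⟨(QCohLib.toAbF X).map θ.τ₁, (QCohLib.toAbF X).map θ.τ₂, (QCohLib.toAbF X).map θ.τ₃,
    ((QCohLib.toAbF X).map_comp _ _).symm.trans
      ((congrArg (QCohLib.toAbF X).map θ.comm₁₂).trans ((QCohLib.toAbF X).map_comp _ _)),
    ((QCohLib.toAbF X).map_comp _ _).symm.trans
      ((congrArg (QCohLib.toAbF X).map θ.comm₂₃).trans ((QCohLib.toAbF X).map_comp _ _))⟩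

theorem postcomp_natural {C : Type*} [Category C] [Abelian C] [HasExt.{u} C] {T T' : ShortComplex C}
    (hT : T.ShortExact) (hT' : T'.ShortExact) (φ : T' ⟶ T) {P : C} {j : ℕ} (z : Abelian.Ext.{u} P T'.X₃ j) :
    (z.comp (Abelian.Ext.mk₀ φ.τ₃) (add_zero j)).comp hT.extClass rfl =
      (z.comp hT'.extClass rfl).comp (Abelian.Ext.mk₀ φ.τ₁) (add_zero (j + 1)) := by
  rw [Abelian.Ext.comp_assoc_of_second_deg_zero, Abelian.Ext.comp_assoc_of_third_deg_zero,
    ShortComplex.ShortExact.extClass_naturality hT' hT φ]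

theorem hδ_natural {S S' : ShortComplex X.Modules} (hS : S.ShortExact) (hS' : S'.ShortExact) (θ : S' ⟶ S) (j : ℕ)
    (z : Coh.HH X S'.X₃ j) :
    CurveLib.hδ (k := k) hS j (CurveLib.hMap (k := k) θ.τ₃ j z) =
      CurveLib.hMap (k := k) θ.τ₁ (j + 1) (CurveLib.hδ (k := k) hS' j z) := by
  have h := @postcomp_natural.{u} _ _ _ _ (S.map (QCohLib.toAbF X)) (S'.map (QCohLib.toAbF X))
    (QCohLib.toAb_shortExact hS) (QCohLib.toAb_shortExact hS') (mapSeq θ) _ j z
  exact h

include k hLA in
theorem dead_step {S : ShortComplex X.Modules} (hS : S.ShortExact) (j : ℕ) [Subsingleton (Coh.HH X S.X₂ j)]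
    (h : Dead k a S.X₁ (j + 1)) : Dead k a S.X₃ j := by
  obtain ⟨t₀, ht₀⟩ := h
  refine ⟨t₀, fun t ht z => ?_⟩
  have hB := AmpleLib.isInvertible_tensorPow hLA.invertible t
  have hT := shortExact_tens hS hB
  let θ : S.map ((DCoh.tensorBi (X := X)).obj (CohB1.tensorPow A t)) ⟶ S :=
    ⟨act (aPow a t) S.X₁, act (aPow a t) S.X₂, act (aPow a t) S.X₃, (act_natural _ S.f).symm, (act_natural _ S.g).symm⟩
  have hnat := hδ_natural k hS hT θ j z
  have h0 : CurveLib.hMap (k := k) (act (aPow a t) S.X₁) (j + 1) (CurveLib.hδ (k := k) hT j z) = 0 :=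
    ht₀ t ht _
  have hker : CurveLib.hMap (k := k) (act (aPow a t) S.X₃) j z ∈ LinearMap.ker (CurveLib.hδ (k := k) hS j) :=
    hnat.trans h0
  rw [← CurveLib.range_hMap_g hS j] at hker
  obtain ⟨w, hw⟩ := hker
  rw [← hw, Subsingleton.elim w 0, map_zero]

end Groth.Agent.ProZeroLib
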