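import Groth.Agent.StalkHomLib.ThetaBij
import Groth.Agent.RefOne.Stalk

/-!
# Multiplication by a section of the inverse of an invertible module
-/

set_option autoImplicit false
set_option backward.isDefEq.respectTransparency false
set_option linter.style.haveILetI false

universe u

open CategoryTheory CategoryTheory.Limits AlgebraicGeometry TopologicalSpace
open Groth.Agent.PullbackMod Groth.Agent.DCohLib
open scoped TensorProduct

noncomputable section

namespace Groth.Agent.ProZeroLib

variable {X : Scheme.{u}}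

/-- The stalk of a map to the structure sheaf, as a functional. -/
def aev {A : X.Modules} (a : A ⟶ Coh.structureModule X) (x : X) :
    A.presheaf.stalk x →ₗ[X.presheaf.stalk x] X.presheaf.stalk x :=
  (RefOne.oEquiv x).symm.toLinearMap.comp (stalkLin a x)

theorem stalkLin_eq_aev_smul {A : X.Modules} (a : A ⟶ Coh.structureModule X) (x : X) (p : A.presheaf.stalk x) :
    stalkLin a x p = aev a x p • ParaFLib.oneG x :=
  ((RefOne.oEquiv x).apply_symm_apply (stalkLin a x p)).symm

theorem aev_comp {A B : X.Modules} (g : B ⟶ A) (a : A ⟶ Coh.structureModule X) (x : X) (p : B.presheaf.stalk x) :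
    aev (g ≫ a) x p = aev a x (stalkLin g x p) := by
  show (RefOne.oEquiv x).symm _ = (RefOne.oEquiv x).symm _
  rw [stalkLin_comp]
  rfl

theorem surjective_aev_iff {A : X.Modules} (a : A ⟶ Coh.structureModule X) (x : X) :
    Function.Surjective (aev a x) ↔ Function.Surjective (stalkLin a x) :=
  ((RefOne.oEquiv x).symm.toEquiv).comp_surjective _

/-- The action of `a : A ⟶ O` on a module. -/
def act {A : X.Modules} (a : A ⟶ Coh.structureModule X) (G : X.Modules) : tmod A G ⟶ G :=
  ((DCoh.tensorBi (X := X)).map a).app G ≫ StalkHomLib.unitMap G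

theorem act_stalk {A : X.Modules} (a : A ⟶ Coh.structureModule X) (G : X.Modules) (x : X)
    (p : A.presheaf.stalk x) (g : G.presheaf.stalk x) :
    stalkLin (act a G) x (stalkTensor x A G (p ⊗ₜ g)) = aev a x p • g := by
  rw [act, stalkLin_comp, LinearMap.comp_apply, stalkTensor_natural_left, LinearMap.rTensor_tmul,
    stalkLin_eq_aev_smul, ← TensorProduct.smul_tmul', map_smul, map_smul]
  exact congrArg (_ • ·) (StalkHomLib.unitMap_stalk G x g)

theorem hom_ext_tmod {A G N : X.Modules} {φ ψ : tmod A G ⟶ N}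
    (h : ∀ (x : X) (p : A.presheaf.stalk x) (g : G.presheaf.stalk x),
      stalkLin φ x (stalkTensor x A G (p ⊗ₜ g)) = stalkLin ψ x (stalkTensor x A G (p ⊗ₜ g))) : φ = ψ := by
  refine hom_ext_stalk fun x => LinearMap.ext fun t => ?_
  obtain ⟨t, rfl⟩ := (stalkTensor x A G).surjective t
  induction t using TensorProduct.induction_on with
  | zero => simp only [map_zero]
  | tmul p g => exact h x p g
  | add u v hu hv => rw [map_add, map_add, hu, hv, map_add]

theorem act_natural {A : X.Modules} (a : A ⟶ Coh.structureModule X) {G G' : X.Modules} (f : G ⟶ G') :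
    ((DCoh.tensorBi (X := X)).obj A).map f ≫ act a G' = act a G ≫ f := by
  refine hom_ext_tmod fun x p g => ?_
  rw [stalkLin_comp, stalkLin_comp, LinearMap.comp_apply, LinearMap.comp_apply, stalkTensor_natural_right,
    LinearMap.lTensor_tmul, act_stalk, act_stalk, map_smul]

theorem act_comp {A B : X.Modules} (g : B ⟶ A) (a : A ⟶ Coh.structureModule X) (G : X.Modules) :
    ((DCoh.tensorBi (X := X)).map g).app G ≫ act a G = act (g ≫ a) G := by
  refine hom_ext_tmod fun x p q => ?_
  rw [stalkLin_comp, LinearMap.comp_apply, stalkTensor_natural_left, LinearMap.rTensor_tmul, act_stalk, act_stalk,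
    aev_comp]

/-- The powers of `a : A ⟶ O`. -/
def aPow {A : X.Modules} (a : A ⟶ Coh.structureModule X) : ∀ t, CohB1.tensorPow A t ⟶ Coh.structureModule X
  | 0 => 𝟙 _
  | t + 1 => act (aPow a t) A ≫ a

/-- At each point the powers are the powers of one element, on a generator. -/
theorem exists_aPow_gen {A : X.Modules} (a : A ⟶ Coh.structureModule X) {x : X} {e : A.presheaf.stalk x}
    (he : ∀ z, ∃ r : X.presheaf.stalk x, r • e = z) : ∀ t, ∃ E : (CohB1.tensorPow A t).presheaf.stalk x,
      (∀ z, ∃ r : X.presheaf.stalk x, r • E = z) ∧ aev (aPow a t) x E = aev a x e ^ t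
  | 0 => by
    refine ⟨ParaFLib.oneG x, fun z => (ParaFLib.bijective_oneG x).2 z, ?_⟩
    show (RefOne.oEquiv x).symm (stalkLin (𝟙 (Coh.structureModule X)) x (ParaFLib.oneG x)) = _
    rw [pow_zero, LinearEquiv.symm_apply_eq]
    refine Eq.trans ?_ (one_smul (X.presheaf.stalk x) (ParaFLib.oneG x)).symm
    exact LinearMap.congr_fun (stalkLin_id x) (ParaFLib.oneG x)
  | t + 1 => by
    obtain ⟨E, hE, hv⟩ := exists_aPow_gen a he t
    refine ⟨stalkTensor x _ _ (E ⊗ₜ e), fun z => ?_, ?_⟩
    · obtain ⟨z, rfl⟩ := (stalkTensor x (CohB1.tensorPow A t) A).surjective z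
      induction z using TensorProduct.induction_on with
      | zero => exact ⟨0, by rw [zero_smul, map_zero]⟩
      | tmul u v =>
        obtain ⟨r, rfl⟩ := hE u
        obtain ⟨r', rfl⟩ := he v
        exact ⟨r * r', by rw [← TensorProduct.smul_tmul', TensorProduct.tmul_smul, map_smul, map_smul, smul_smul]⟩
      | add u v hu hv =>
        obtain ⟨r, hr⟩ := hu
        obtain ⟨r', hr'⟩ := hv
        exact ⟨r + r', by rw [add_smul, hr, hr', map_add]⟩
    · show aev (act (aPow a t) A ≫ a) x _ = _
      rw [aev_comp, act_stalk, map_smul, hv, smul_eq_mul, ← pow_succ]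

/-- A generator of the stalk of an invertible module. -/
theorem exists_span {A : X.Modules} (hA : PicF.IsInvertible A) (x : X) :
    ∃ e : A.presheaf.stalk x, ∀ z, ∃ r : X.presheaf.stalk x, r • e = z :=
  let ⟨e, he⟩ := ParaFLib.exists_stalk_gen hA x
  ⟨e, fun z => he.2 z⟩

theorem surjective_aev_iff_isUnit {A : X.Modules} (a : A ⟶ Coh.structureModule X) {x : X} {e : A.presheaf.stalk x}
    (he : ∀ z, ∃ r : X.presheaf.stalk x, r • e = z) :
    Function.Surjective (aev a x) ↔ IsUnit (aev a x e) := by
  refine ⟨fun h => ?_, fun h r => ?_⟩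
  · obtain ⟨z, hz⟩ := h 1
    obtain ⟨r, rfl⟩ := he z
    rw [map_smul, smul_eq_mul] at hz
    exact IsUnit.of_mul_eq_one r (by rw [mul_comm]; exact hz)
  · obtain ⟨v, hv⟩ := h.exists_left_inv
    exact ⟨(r * v) • e, by rw [map_smul, smul_eq_mul, mul_assoc, hv, mul_one]⟩

theorem surjective_aev_aPow {A : X.Modules} (hA : PicF.IsInvertible A) (a : A ⟶ Coh.structureModule X) {x : X}
    (h : Function.Surjective (aev a x)) (t : ℕ) : Function.Surjective (aev (aPow a t) x) := by
  obtain ⟨e, he⟩ := exists_span hA x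
  obtain ⟨E, hE, hv⟩ := exists_aPow_gen a he t
  rw [surjective_aev_iff_isUnit _ hE, hv]
  exact ((surjective_aev_iff_isUnit a he).1 h).pow t

theorem surjective_aev_of_aPow {A : X.Modules} (hA : PicF.IsInvertible A) (a : A ⟶ Coh.structureModule X) {x : X}
    {t : ℕ} (h : Function.Surjective (aev (aPow a (t + 1)) x)) : Function.Surjective (aev a x) := by
  obtain ⟨e, he⟩ := exists_span hA x
  obtain ⟨E, hE, hv⟩ := exists_aPow_gen a he (t + 1)
  rw [surjective_aev_iff_isUnit _ hE, hv] at h
  rw [surjective_aev_iff_isUnit a he]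
  exact (isUnit_pow_iff t.succ_ne_zero).1 h

end Groth.Agent.ProZeroLib
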