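import Groth.Agent.ProZeroLib.Zero
import Groth.Agent.LefEtaleLib.Completion
import Groth.Agent.AmpleLib.UnivClosed
import Groth.Agent.FinPartGrpdLib.Fibre

/-!
# The completion of a coherent module along a zero scheme, as quotients by powers
-/

set_option autoImplicit false
set_option backward.isDefEq.respectTransparency false
set_option linter.style.haveILetI false

universe u

open CategoryTheory CategoryTheory.Limits AlgebraicGeometry TopologicalSpace
open Groth.Agent.PullbackMod Groth.Agent.DCohLib
open scoped TensorProduct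

noncomputable section

namespace Groth.Agent.ProZeroLib

variable {X : Scheme.{u}}

theorem pushforwardCongr_refl {T : Scheme.{u}} (g : T ⟶ X) (P : T.Modules) :
    (Scheme.Modules.pushforwardCongr (rfl : g = g)).hom.app P = 𝟙 _ := by
  refine Scheme.Modules.hom_ext _ _ fun U => ?_
  rw [Scheme.Modules.pushforwardCongr_hom_app_app]
  simp

/-- The units of two closed immersions, one through the other. -/
theorem unit_trans {T T' : Scheme.{u}} (l : T ⟶ T') (g' : T' ⟶ X) {g : T ⟶ X} (h : l ≫ g' = g) (F : X.Modules) :
    (Scheme.Modules.pullbackPushforwardAdjunction g').unit.app F ≫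
        (Scheme.Modules.pushforward g').map ((Scheme.Modules.pullbackPushforwardAdjunction l).unit.app
          ((Scheme.Modules.pullback g').obj F)) ≫
        (Scheme.Modules.pushforwardComp l g').hom.app _ ≫
        (Scheme.Modules.pushforwardCongr h).hom.app _ ≫
        (Scheme.Modules.pushforward g).map
          ((Scheme.Modules.pullbackComp l g').app F ≪≫ (Scheme.Modules.pullbackCongr h).app F).hom =
      (Scheme.Modules.pullbackPushforwardAdjunction g).unit.app F := by
  subst h
  have h1 := LefEtaleLib.homEquiv_pullbackComp_inv l g' (M := F) (P := _) (𝟙 _)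
  simp only [Adjunction.homEquiv_unit, CategoryTheory.Functor.map_id] at h1
  rw [pushforwardCongr_refl]
  simp only [Category.id_comp, Iso.trans_hom, Scheme.Modules.pullbackCongr, eqToIso_refl, Iso.app_hom, Iso.refl_hom,
    NatTrans.id_app, Category.comp_id]
  have h2 : (Scheme.Modules.pullbackPushforwardAdjunction (l ≫ g')).unit.app F ≫
      (Scheme.Modules.pushforward (l ≫ g')).map ((Scheme.Modules.pullbackComp l g').inv.app F) =
    (Scheme.Modules.pullbackPushforwardAdjunction g').unit.app F ≫
      (Scheme.Modules.pushforward g').map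
        ((Scheme.Modules.pullbackPushforwardAdjunction l).unit.app ((Scheme.Modules.pullback g').obj F)) ≫
      (Scheme.Modules.pushforwardComp l g').hom.app _ := by
    refine Eq.trans ?_ (h1.trans ?_)
    · exact congrArg (fun t => _ ≫ (Scheme.Modules.pushforward (l ≫ g')).map t) (Category.comp_id _).symm
    · exact (Category.assoc _ _ _).trans
        (congrArg (fun t => _ ≫ (Scheme.Modules.pushforward g').map t ≫ _) (Category.comp_id _))
  rw [← reassoc_of% h2, ← Functor.map_comp, Iso.inv_hom_id_app, CategoryTheory.Functor.map_id, Category.comp_id]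

/-- The transition map of the reductions along two closed immersions, one through the other. -/
def transMap {T T' : Scheme.{u}} (l : T ⟶ T') (g' : T' ⟶ X) {g : T ⟶ X} (h : l ≫ g' = g) (F : X.Modules) :
    (Scheme.Modules.pushforward g').obj ((Scheme.Modules.pullback g').obj F) ⟶
      (Scheme.Modules.pushforward g).obj ((Scheme.Modules.pullback g).obj F) :=
  (Scheme.Modules.pushforward g').map ((Scheme.Modules.pullbackPushforwardAdjunction l).unit.app
      ((Scheme.Modules.pullback g').obj F)) ≫
    (Scheme.Modules.pushforwardComp l g').hom.app _ ≫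
    (Scheme.Modules.pushforwardCongr h).hom.app _ ≫
    (Scheme.Modules.pushforward g).map
      ((Scheme.Modules.pullbackComp l g').app F ≪≫ (Scheme.Modules.pullbackCongr h).app F).hom

theorem unit_transMap {T T' : Scheme.{u}} (l : T ⟶ T') (g' : T' ⟶ X) {g : T ⟶ X} (h : l ≫ g' = g) (F : X.Modules) :
    (Scheme.Modules.pullbackPushforwardAdjunction g').unit.app F ≫ transMap l g' h F =
      (Scheme.Modules.pullbackPushforwardAdjunction g).unit.app F :=
  unit_trans l g' h F

theorem tensor_one_eq_zero_iff {R S M : Type u} [CommRing R] [CommRing S] [Algebra R S] [AddCommGroup M] [Module R M]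
    (h : Function.Surjective (algebraMap R S)) (c : M) :
    (1 : S) ⊗ₜ[R] c = 0 ↔ c ∈ RingHom.ker (algebraMap R S) • (⊤ : Submodule R M) := by
  let e : (R ⧸ RingHom.ker (Algebra.ofId R S)) ≃ₐ[R] S := Ideal.quotientKerAlgEquivOfSurjective h
  rw [← LinearMap.ker_tensorProductMk M (I := RingHom.ker (algebraMap R S)), LinearMap.mem_ker,
    TensorProduct.mk_apply,
    ← (TensorProduct.congr e.toLinearEquiv (LinearEquiv.refl R M)).map_eq_zero_iff
      (x := (1 : R ⧸ RingHom.ker (Algebra.ofId R S)) ⊗ₜ[R] c), TensorProduct.congr_tmul]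
  simp

theorem notMem_support_pow {I : X.IdealSheafData} (m : ℕ) {x : X} :
    x ∈ Set.range (I ^ (m + 1)).subschemeι ↔ x ∈ (I.support : Set X) := by
  rw [Scheme.IdealSheafData.range_subschemeι, Scheme.IdealSheafData.support_pow_succ]

/-- The reduction of a module to a closed subscheme, as a module on the whole scheme. -/
abbrev quotObj (K : X.IdealSheafData) (F : X.Modules) : X.Modules :=
  (Scheme.Modules.pushforward K.subschemeι).obj ((Scheme.Modules.pullback K.subschemeι).obj F)

/-- The reduction map. -/
abbrev quotProj (K : X.IdealSheafData) (F : X.Modules) : F ⟶ quotObj K F :=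
  (Scheme.Modules.pullbackPushforwardAdjunction K.subschemeι).unit.app F

/-- The transition between reductions. -/
def quotTrans {K K' : X.IdealSheafData} (h : K ≤ K') (F : X.Modules) : quotObj K F ⟶ quotObj K' F :=
  transMap (Scheme.IdealSheafData.inclusion h) K.subschemeι (Scheme.IdealSheafData.inclusion_subschemeι h) F

theorem quotProj_quotTrans {K K' : X.IdealSheafData} (h : K ≤ K') (F : X.Modules) :
    quotProj K F ≫ quotTrans h F = quotProj K' F :=
  unit_transMap (Scheme.IdealSheafData.inclusion h) K.subschemeι (Scheme.IdealSheafData.inclusion_subschemeι h) F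

theorem stalk_quotProj_eq_zero_iff (K : X.IdealSheafData) {F : X.Modules} (hF : Coh.IsCoh F) (x : X)
    {b : X.presheaf.stalk x} (hK : IntMult.stalkIdeal K x = Ideal.span {b}) (c : F.presheaf.stalk x) :
    stalkLin (quotProj K F) x c = 0 ↔ ∃ g, c = b • g := by
  let ι := K.subschemeι
  by_cases hx : x ∈ Set.range ι
  · obtain ⟨w, rfl⟩ := hx
    show stalkLin ((Scheme.Modules.pullbackPushforwardAdjunction ι).unit.app F) (ι w) c = 0 ↔ _
    rw [← (bijective_pushStalk ι _ w).1.eq_iff, unit_stalk_pushStalk, map_zero]
    haveI := hF.1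
    letI := (ι.stalkMap w).hom.toAlgebra
    obtain ⟨φ, hφ⟩ := exists_pullback_stalk_equiv ι F w
    have h1 : pullStalk ι F w c = φ (1 ⊗ₜ c) := by rw [hφ, one_smul]
    rw [h1, LinearEquiv.map_eq_zero_iff, tensor_one_eq_zero_iff (ι.stalkMap_surjective w),
      show RingHom.ker (algebraMap (X.presheaf.stalk (ι w)) _) = IntMult.stalkIdeal K (ι w) from
        IdealStalkLib.ker_stalkMap_subschemeι _ w, hK, Submodule.ideal_span_singleton_smul,
      Submodule.mem_smul_pointwise_iff_exists]
    exact ⟨fun ⟨g, _, hg⟩ => ⟨g, hg.symm⟩, fun ⟨g, hg⟩ => ⟨g, trivial, hg.symm⟩⟩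
  · haveI : Subsingleton (((Scheme.Modules.pushforward ι).obj
        ((Scheme.Modules.pullback ι).obj F)).presheaf.stalk x) :=
      subsingleton_stalk_pushforward ι _ x hx
    refine ⟨fun _ => ?_, fun _ => Subsingleton.elim _ _⟩
    have htop := IdealMulLib.stalkIdeal_eq_top K (y := x)
      (by rwa [← SetLike.mem_coe, ← Scheme.IdealSheafData.range_subschemeι])
    rw [hK, Ideal.span_singleton_eq_top] at htop
    exact ⟨(↑htop.unit⁻¹ : X.presheaf.stalk x) • c, by rw [smul_smul, IsUnit.mul_val_inv, one_smul]⟩

theorem pow_succ_succ_le (I : X.IdealSheafData) (m : ℕ) : I ^ (m + 1 + 1) ≤ I ^ (m + 1) :=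
  pow_le_pow_of_le_one bot_le le_top (Nat.le_succ (m + 1))

theorem quotProj_quotTrans_pow (I : X.IdealSheafData) (F : X.Modules) (m : ℕ) :
    quotProj (I ^ (m + 1 + 1)) F ≫ quotTrans (pow_succ_succ_le I m) F = quotProj (I ^ (m + 1)) F :=
  quotProj_quotTrans _ F

theorem isCoh_quotObj_pow [IsLocallyNoetherian X] (I : X.IdealSheafData) (F : X.Modules) (hF : Coh.IsCoh F) (m : ℕ) :
    Coh.IsCoh (quotObj (I ^ (m + 1)) F) :=
  DevLib.isCoh_pushforward_closed _ (PullbackMod.isCoh_pullback _ F hF)

theorem epi_quotProj_pow (I : X.IdealSheafData) (F : X.Modules) (m : ℕ) : Epi (quotProj (I ^ (m + 1)) F) :=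
  epi_unit_closed _ _

/-- The completion of a coherent module, as quotients by powers. -/
def completionSystem [IsLocallyNoetherian X] {A : X.Modules} (a : A ⟶ Coh.structureModule X) (I : X.IdealSheafData)
    (hI : ∀ (x : X) (e : A.presheaf.stalk x), (∀ z, ∃ r : X.presheaf.stalk x, r • e = z) →
      IntMult.stalkIdeal I x = Ideal.span {aev a x e})
    (F : X.Modules) (hF : Coh.IsCoh F) : PowSystem a (F := F) where
  Q m := quotObj (I ^ (m + 1)) F
  p m := quotProj (I ^ (m + 1)) F
  q m := quotTrans (pow_succ_succ_le I m) F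
  comp := quotProj_quotTrans_pow I F
  coh := isCoh_quotObj_pow I F hF
  epi := epi_quotProj_pow I F
  ker m x e he c := stalk_quotProj_eq_zero_iff (I ^ (m + 1)) hF x
    (by rw [InfNbhdLib.stalkIdeal_pow, hI x e he, Ideal.span_singleton_pow]) c

section CompletionMod

set_option backward.isDefEq.respectTransparency true
set_option maxHeartbeats 2000000

variable (I : X.IdealSheafData) (F : X.Modules) (n : ℕ)

/-- The system of the reductions along a family of maps. -/
def pullSys {S : FSch.Sys.{u}} (g : ∀ n, S.X n ⟶ X) (h : ∀ n, S.ι n ≫ g (n + 1) = g n) : FSch.ModSys S where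
  F n := (Scheme.Modules.pullback (g n)).obj F
  e n := (Scheme.Modules.pullbackComp (S.ι n) (g (n + 1))).app F ≪≫ (Scheme.Modules.pullbackCongr (h n)).app F

theorem pullSys_trans {S : FSch.Sys.{u}} (g : ∀ n, S.X n ⟶ X) (h : ∀ n, S.ι n ≫ g (n + 1) = g n) :
    (Scheme.Modules.pushforward (g (n + 1))).map
            ((Scheme.Modules.pullbackPushforwardAdjunction (S.ι n)).unit.app ((pullSys F g h).F (n + 1))) ≫
          (Scheme.Modules.pushforwardComp (S.ι n) (g (n + 1))).hom.app _ ≫
          (Scheme.Modules.pushforwardCongr (h n)).hom.app _ ≫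
          (Scheme.Modules.pushforward (g n)).map ((pullSys F g h).e n).hom =
      transMap (S.ι n) (g (n + 1)) (h n) F := rfl

theorem completionMod_eq_pullSys : FSch.completionMod I F =
    pullSys F (S := FSch.completionAlong X I) (FSch.completionToX X I)
      (fun n => Scheme.IdealSheafData.inclusion_subschemeι (FSch.pow_succ_le X I n)) := rfl

theorem completionMod_trans_heq (M : FSch.ModSys (FSch.completionAlong X I))
    (hM : M = pullSys F (S := FSch.completionAlong X I) (FSch.completionToX X I)
      (fun n => Scheme.IdealSheafData.inclusion_subschemeι (FSch.pow_succ_le X I n))) : HEq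
    ((Scheme.Modules.pushforward (FSch.completionToX X I (n + 1))).map
            ((Scheme.Modules.pullbackPushforwardAdjunction ((FSch.completionAlong X I).ι n)).unit.app (M.F (n + 1))) ≫
          (Scheme.Modules.pushforwardComp ((FSch.completionAlong X I).ι n) (FSch.completionToX X I (n + 1))).hom.app _ ≫
          (Scheme.Modules.pushforwardCongr (Scheme.IdealSheafData.inclusion_subschemeι (FSch.pow_succ_le X I n))).hom.app _ ≫
          (Scheme.Modules.pushforward (FSch.completionToX X I n)).map (M.e n).hom)
    (transMap ((FSch.completionAlong X I).ι n) (FSch.completionToX X I (n + 1))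
        (g := FSch.completionToX X I n) (Scheme.IdealSheafData.inclusion_subschemeι (FSch.pow_succ_le X I n)) F) := by
  subst hM
  exact heq_of_eq (pullSys_trans F (S := FSch.completionAlong X I) n (FSch.completionToX X I)
    (fun n => Scheme.IdealSheafData.inclusion_subschemeι (FSch.pow_succ_le X I n)))

theorem completionMod_trans :
    (Scheme.Modules.pushforward (FSch.completionToX X I (n + 1))).map
            ((Scheme.Modules.pullbackPushforwardAdjunction ((FSch.completionAlong X I).ι n)).unit.app ((FSch.completionMod I F).F (n + 1))) ≫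
          (Scheme.Modules.pushforwardComp ((FSch.completionAlong X I).ι n) (FSch.completionToX X I (n + 1))).hom.app _ ≫
          (Scheme.Modules.pushforwardCongr (Scheme.IdealSheafData.inclusion_subschemeι (FSch.pow_succ_le X I n))).hom.app _ ≫
          (Scheme.Modules.pushforward (FSch.completionToX X I n)).map ((FSch.completionMod I F).e n).hom =
      transMap ((FSch.completionAlong X I).ι n) (FSch.completionToX X I (n + 1))
        (g := FSch.completionToX X I n) (Scheme.IdealSheafData.inclusion_subschemeι (FSch.pow_succ_le X I n)) F :=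
  eq_of_heq (completionMod_trans_heq I F n (FSch.completionMod I F) (completionMod_eq_pullSys I F))

theorem transMap_completion : transMap ((FSch.completionAlong X I).ι n) (FSch.completionToX X I (n + 1))
      (g := FSch.completionToX X I n) (Scheme.IdealSheafData.inclusion_subschemeι (FSch.pow_succ_le X I n)) F =
    quotTrans (pow_succ_succ_le I n) F := rfl

theorem completionMod_quotTrans :
    (Scheme.Modules.pushforward (FSch.completionToX X I (n + 1))).map
            ((Scheme.Modules.pullbackPushforwardAdjunction ((FSch.completionAlong X I).ι n)).unit.app ((FSch.completionMod I F).F (n + 1))) ≫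
          (Scheme.Modules.pushforwardComp ((FSch.completionAlong X I).ι n) (FSch.completionToX X I (n + 1))).hom.app _ ≫
          (Scheme.Modules.pushforwardCongr (Scheme.IdealSheafData.inclusion_subschemeι (FSch.pow_succ_le X I n))).hom.app _ ≫
          (Scheme.Modules.pushforward (FSch.completionToX X I n)).map ((FSch.completionMod I F).e n).hom =
      quotTrans (pow_succ_succ_le I n) F :=
  (completionMod_trans I F n).trans (transMap_completion I F n)

theorem app_congr {Z : Scheme.{u}} {M N : Z.Modules} {W : Z.Opens} (φ ψ : M ⟶ N) (h : φ = ψ) (a : Γ(M, W)) (b : Γ(N, W))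
    (h' : φ.app W a = b) : ψ.app W a = b := h ▸ h'
variable (V : X.Opens)
/-- The transition in the completion, on sections. -/
theorem quotTrans_app
  (y1 : (Scheme.Modules.presheaf ((Scheme.Modules.pushforward (FSch.completionToX X I (n+1))).obj ((FSch.completionMod I F).F (n+1)))).obj (Opposite.op V))
  (y0 : (Scheme.Modules.presheaf ((Scheme.Modules.pushforward (FSch.completionToX X I n)).obj ((FSch.completionMod I F).F n))).obj (Opposite.op V))
  (h : Scheme.Modules.Hom.app
   ((Scheme.Modules.pushforward (FSch.completionToX X I (n + 1))).map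
            ((Scheme.Modules.pullbackPushforwardAdjunction ((FSch.completionAlong X I).ι n)).unit.app ((FSch.completionMod I F).F (n + 1))) ≫
          (Scheme.Modules.pushforwardComp ((FSch.completionAlong X I).ι n) (FSch.completionToX X I (n + 1))).hom.app _ ≫
          (Scheme.Modules.pushforwardCongr (Scheme.IdealSheafData.inclusion_subschemeι (FSch.pow_succ_le X I n))).hom.app _ ≫
          (Scheme.Modules.pushforward (FSch.completionToX X I n)).map ((FSch.completionMod I F).e n).hom) V y1 = y0) :
   Scheme.Modules.Hom.app (quotTrans (pow_succ_succ_le I n) F) V y1 = y0 :=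
  app_congr _ _ (completionMod_quotTrans I F n) y1 y0 h

end CompletionMod

theorem mem_genLocus_of_notMem_support {L : X.Modules} (hL : PicF.IsInvertible L) (s : Coh.structureModule X ⟶ L)
    {x : X} (hx : x ∉ ((PicF2.zeroScheme L s).support : Set X)) : x ∈ CohB1.genLocus L s := by
  have hK := JacLib.isCanSect_zeroScheme hL (AmpleLib.sec s)
  rw [AmpleLib.secHom_sec] at hK
  obtain ⟨W, hW, l, c, hl, hI, hsl⟩ := hK x
  have htop := IdealMulLib.stalkIdeal_eq_top (PicF2.zeroScheme L s) hx
  rw [IdealStalkLib.stalkIdeal_eq _ W x hW, hI, Ideal.map_span, Set.image_singleton,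
    Ideal.span_singleton_eq_top] at htop
  rw [AmpleLib.mem_genLocus_iff hL,
    ← TopCat.Presheaf.germ_res_apply L.presheaf (homOfLE (le_top : W.1 ≤ ⊤)) x hW, hsl, ParaFLib.germ_smul']
  simp only [smul_smul]
  exact (hl.bijective_germ x hW).comp htop.unit.mulRight.bijective

/-- Outside a neighbourhood of the zero scheme, every point is closed. -/
theorem isClosed_singleton_of_notMem {k : Type u} [Field k] (f : X ⟶ Spec (CommRingCat.of k)) [IsProper f]
    {L : X.Modules} (hL : CohB1.IsAmple L) (s : Coh.structureModule X ⟶ L) (V : X.Opens)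
    (hV : ((PicF2.zeroScheme L s).support : Set X) ⊆ (V : Set X)) {x : X} (hx : x ∉ V) :
    IsClosed ({x} : Set X) := by
  have hW := AmpleLib.isAffineOpen_genLocus_of_universallyClosed f hL s
  let W := CohB1.genLocus L s
  let J := Scheme.IdealSheafData.vanishingIdeal ⟨(V : Set X)ᶜ, V.2.isClosed_compl⟩
  have hJ : Set.range J.subschemeι = (V : Set X)ᶜ := by
    rw [Scheme.IdealSheafData.range_subschemeι]
    simp [J]
  have hsub : Set.range J.subschemeι ⊆ Set.range W.ι := by
    rw [Scheme.Opens.range_ι, hJ]
    exact fun z hz => mem_genLocus_of_notMem_support hL.1 s fun h => hz (hV h)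
  let g := IsOpenImmersion.lift W.ι J.subschemeι hsub
  have hg : g ≫ W.ι = J.subschemeι := IsOpenImmersion.lift_fac _ _ _
  haveI : IsClosedImmersion (g ≫ W.ι) := hg ▸ inferInstance
  haveI : IsClosedImmersion g := IsClosedImmersion.of_comp g W.ι
  haveI : IsAffine W.toScheme := hW
  haveI : IsAffine J.subscheme := isAffine_of_isAffineHom g
  haveI : IsFinite (J.subschemeι ≫ f) := IsFinite.iff_isProper_and_isAffineHom.2 ⟨inferInstance, inferInstance⟩
  let φ := J.subschemeι ≫ f
  refine closure_subset_iff_isClosed.1 fun w hw => ?_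
  obtain ⟨z, hz⟩ : x ∈ Set.range J.subschemeι := hJ ▸ hx
  obtain ⟨z', hz'⟩ : w ∈ Set.range J.subschemeι := by
    rw [hJ]
    exact (specializes_iff_mem_closure.2 hw).mem_closed V.2.isClosed_compl hx
  have hφ : φ z' = φ z := @Subsingleton.elim _ (inferInstanceAs (Subsingleton (PrimeSpectrum k))) _ _
  obtain ⟨v, hv⟩ := (Set.ext_iff.1 (φ.range_fiberι (φ z)) z).2 rfl
  obtain ⟨v', hv'⟩ := (Set.ext_iff.1 (φ.range_fiberι (φ z)) z').2 hφ
  obtain ⟨-, hd⟩ := FinPartGrpdLib.discreteTopology_fiber φ (φ z) (φ.finite_preimage_singleton _)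
  have hsz : z ⤳ z' := J.subschemeι.isClosedEmbedding.isInducing.specializes_iff.1
    (hz ▸ hz' ▸ specializes_iff_mem_closure.2 hw)
  have hsv : v ⤳ v' := (φ.fiberι (φ z)).isEmbedding.isInducing.specializes_iff.1 (by rw [hv, hv']; exact hsz)
  have hzz : z = z' := by rw [← hv, ← hv', hsv.eq]
  rw [Set.mem_singleton_iff, ← hz', ← hzz, hz]

end Groth.Agent.ProZeroLib
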