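import Groth.Agent.ProZeroLib.Proj
import Groth.Agent.DCohLib.ProjClosed
import Groth.Agent.ProjSerreLib.PushDual
import Groth.Agent.AmpleEmb.TwistOne
import Groth.Agent.AmpleLib.Pullback
import Groth.Agent.H1ZeroLib.VeryAmple
import Groth.Agent.S9710

/-!
# Powers of a section act by zero below the depth on a scheme with an ample module
-/

set_option autoImplicit false
set_option backward.isDefEq.respectTransparency false
set_option linter.style.haveILetI false

universe u

open CategoryTheory CategoryTheory.Limits AlgebraicGeometry TopologicalSpace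
open Groth.Agent.PullbackMod Groth.Agent.DCohLib
open scoped TensorProduct

noncomputable section

namespace Groth.Agent.ProZeroLib

theorem isIso_unitMap {X : Scheme.{u}} (G : X.Modules) : IsIso (StalkHomLib.unitMap G) := by
  refine (isIso_iff_stalk _).2 fun x => ⟨(injective_iff_map_eq_zero _).2 fun z hz => ?_, fun g =>
    ⟨_, StalkHomLib.unitMap_stalk G x g⟩⟩
  obtain ⟨z, rfl⟩ := (stalkTensor x (Coh.structureModule X) G).surjective z
  obtain ⟨g, rfl⟩ : ∃ g : G.presheaf.stalk x, ParaFLib.oneG x ⊗ₜ[X.presheaf.stalk x] g = z := by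
    clear hz
    induction z using TensorProduct.induction_on with
    | zero => exact ⟨0, TensorProduct.tmul_zero _ _⟩
    | tmul p g =>
      obtain ⟨r, rfl⟩ := (ParaFLib.bijective_oneG x).2 p
      exact ⟨r • g, (TensorProduct.smul_tmul _ _ _).symm⟩
    | add u v hu hv =>
      obtain ⟨g, rfl⟩ := hu
      obtain ⟨g', rfl⟩ := hv
      exact ⟨g + g', TensorProduct.tmul_add _ _ _⟩
  rw [show g = 0 from (StalkHomLib.unitMap_stalk G x g).symm.trans hz, TensorProduct.tmul_zero, map_zero]

theorem epi_unit_closed {X Y : Scheme.{u}} (i : X ⟶ Y) [IsClosedImmersion i] (T : Y.Modules) :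
    Epi ((Scheme.Modules.pullbackPushforwardAdjunction i).unit.app T) := by
  refine (epi_iff_stalk _).2 fun y w => ?_
  by_cases hy : y ∈ Set.range i
  · obtain ⟨x, rfl⟩ := hy
    letI := (i.stalkMap x).hom.toAlgebra
    letI := Module.compHom (((Scheme.Modules.pullback i).obj T).presheaf.stalk x) (i.stalkMap x).hom
    haveI : IsScalarTower (Y.presheaf.stalk (i x)) (X.presheaf.stalk x)
        (((Scheme.Modules.pullback i).obj T).presheaf.stalk x) := .of_algebraMap_smul fun _ _ => rfl
    have h : ∀ v, ∃ z, pullStalk i T x z = v := fun v => by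
      induction v using (isBaseChange_pullStalkL' i T x).inductionOn with
      | zero => exact ⟨0, map_zero _⟩
      | tmul m => exact ⟨m, rfl⟩
      | smul s v hv =>
        obtain ⟨z, rfl⟩ := hv
        obtain ⟨r, rfl⟩ := i.stalkMap_surjective x s
        exact ⟨r • z, pullStalk_smul i T x r z⟩
      | add u v hu hv =>
        obtain ⟨z, rfl⟩ := hu
        obtain ⟨z', rfl⟩ := hv
        exact ⟨z + z', map_add _ _ _⟩
    obtain ⟨z, hz⟩ := h (pushStalk i _ x w)
    exact ⟨z, (bijective_pushStalk i _ x).1 ((unit_stalk_pushStalk i T x z).trans hz)⟩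
  · exact ⟨0, @Subsingleton.elim _
      (DCohLib.subsingleton_stalk_pushforward i ((Scheme.Modules.pullback i).obj T) y hy) _ _⟩

theorem good_pullback_iff {X Y : Scheme.{u}} (i : X ⟶ Y) {B : Y.Modules} (hB : PicF.IsInvertible B)
    (b : B ⟶ Coh.structureModule Y) (y : X) :
    Good b (i y) ↔ Function.Surjective (stalkLin ((Scheme.Modules.pullback i).map b) y) := by
  letI := (i.stalkMap y).hom.toAlgebra
  rw [surjective_stalk_pullback_iff, Good, surjective_aev_iff]
  refine ⟨fun h => LinearMap.lTensor_surjective _ h, fun h => ?_⟩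
  rw [← surjective_aev_iff]
  obtain ⟨e, he⟩ := exists_span hB (i y)
  rw [surjective_aev_iff_isUnit b he]
  obtain ⟨z, hz⟩ := h ((1 : X.presheaf.stalk y) ⊗ₜ ParaFLib.oneG (i y))
  obtain ⟨s, rfl⟩ : ∃ s : X.presheaf.stalk y, s ⊗ₜ[Y.presheaf.stalk (i y)] e = z := by
    clear hz
    induction z using TensorProduct.induction_on with
    | zero => exact ⟨0, TensorProduct.zero_tmul _ _⟩
    | tmul p v =>
      obtain ⟨r, rfl⟩ := he v
      exact ⟨r • p, TensorProduct.smul_tmul _ _ _⟩
    | add u v hu hv =>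
      obtain ⟨s, rfl⟩ := hu
      obtain ⟨s', rfl⟩ := hv
      exact ⟨s + s', TensorProduct.add_tmul _ _ _⟩
  rw [LinearMap.lTensor_tmul, stalkLin_eq_aev_smul, ← TensorProduct.smul_tmul] at hz
  have h1 := congrArg (TensorProduct.rid (Y.presheaf.stalk (i y)) (X.presheaf.stalk y) ∘
    LinearMap.lTensor (X.presheaf.stalk y) (RefOne.oEquiv (i y)).symm.toLinearMap) hz
  have h2 : (RefOne.oEquiv (i y)).symm (ParaFLib.oneG (i y)) = 1 := by
    rw [LinearEquiv.symm_apply_eq]
    exact (one_smul (Y.presheaf.stalk (i y)) (ParaFLib.oneG (i y))).symm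
  simp only [Function.comp_apply, LinearMap.lTensor_tmul, LinearEquiv.coe_coe, h2, TensorProduct.rid_tmul,
    one_smul] at h1
  haveI : IsLocalHom (i.stalkMap y).hom := i.toLRSHom.prop y
  refine isUnit_of_map_unit (i.stalkMap y).hom _ ?_
  exact IsUnit.of_mul_eq_one s h1

variable {k : Type u} [Field k] {N : ℕ} {X : Scheme.{u}} [X.Over (Spec (CommRingCat.of k))]

theorem hMap_eq_zero_of_natural {A B C D : X.Modules} (f : A ⟶ B) (g : C ⟶ D) (l : A ⟶ C) (r : B ⟶ D)
    (h : f ≫ r = l ≫ g) [IsIso l] (j : ℕ) (hf : ∀ z, CurveLib.hMap (k := k) f j z = 0) :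
    ∀ z, CurveLib.hMap (k := k) g j z = 0 := fun z => by
  rw [show g = inv l ≫ f ≫ r by rw [h, IsIso.inv_hom_id_assoc], HorrocksPnLib.hMap_comp k,
    HorrocksPnLib.hMap_comp k, hf, map_zero]

variable [IsProper (X ↘ Spec (CommRingCat.of k))]

variable (k) in
/-- Below the depth at closed points where `a` is invertible, powers of `a` act by zero on cohomology. -/
theorem dead_of_depth {L A : X.Modules} (hLA : AmplePair L A) (a : A ⟶ Coh.structureModule X) {F : X.Modules}
    (hF : Coh.IsCoh F) {r : ℕ}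
    (hdep : ∀ x : X, IsClosed ({x} : Set X) → Good a x →
      (r : ℕ∞) ≤ LocCoh.depth (X.presheaf.stalk x) (F.presheaf.stalk x))
    {j : ℕ} (hj : j < r) : Dead k a F j := by
  haveI := EulerIneqLib.isNoetherian_proper (X := X) k
  obtain ⟨d₀, hd₀, hd⟩ := S9710.result (X ↘ Spec (CommRingCat.of k)) L hLA.ample
  obtain ⟨N, i, hi, hiw, ⟨θ⟩⟩ := H1ZeroLib.exists_closedImmersion_of_va k (X ↘ Spec (CommRingCat.of k)) (hd d₀ le_rfl)
  haveI := hi
  let P := CohB1.ProjSpace N k
  haveI := CMRegLib.isNoetherian_projSpace (k := k) (n := N)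
  let L₁ : P.Modules := Twist.twistProjSpace N k 1
  let A₁ : P.Modules := Twist.twistProjSpace N k (-1)
  have hP₁ : AmplePair L₁ A₁ :=
    ⟨AmpleEmb.isAmple_twistOne (R := k) (n := N), HorrocksPnLib.nonempty_cancel_twist (by norm_num)⟩
  have hO := DevLib.isCoh_structureModule P
  let adj := Scheme.Modules.pullbackPushforwardAdjunction i
  haveI hepi : Epi (adj.unit.app (Coh.structureModule P)) := epi_unit_closed i _
  have hU : Coh.IsCoh ((Scheme.Modules.pushforward i).obj ((Scheme.Modules.pullback i).obj (Coh.structureModule P))) :=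
    ProjSerreLib.isCoh_push i (CurveLib.isCoh_of_isInvertible (AmpleLib.isInvertible_pullback i (ParaFLib.isInvertible_structureModule)))
  obtain ⟨t₁, ht₁⟩ := eventually_surjective_hom k hP₁ hO hU (adj.unit.app (Coh.structureModule P))
  let e := t₁ + 1
  obtain ⟨κ⟩ : Nonempty ((Scheme.Modules.pullback i).obj (CohB1.tensorPow A₁ e) ≅ CohB1.tensorPow A (d₀ * e)) := by
    rw [← IntLib.mk_eq_mk]
    have h1 : IntLib.mk ((Scheme.Modules.pullback i).obj L₁) = IntLib.mk L ^ d₀ :=
      (IntLib.mk_congr θ).trans (IntLib.mk_tensorPow L d₀)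
    obtain ⟨η⟩ := hLA.inv
    have h2 : IntLib.mk A * IntLib.mk L = 1 := IntLib.mk_congr η
    obtain ⟨η₁⟩ := hP₁.inv
    have h3 : IntLib.mk ((Scheme.Modules.pullback i).obj A₁) * IntLib.mk ((Scheme.Modules.pullback i).obj L₁) = 1 :=
      IntLib.mk_congr ((AmpleLib.pullTensor i _ _).symm ≪≫ (Scheme.Modules.pullback i).mapIso η₁ ≪≫ AmpleLib.pullO i)
    have h4 : IntLib.mk ((Scheme.Modules.pullback i).obj A₁) = IntLib.mk A ^ d₀ := by
      calc IntLib.mk ((Scheme.Modules.pullback i).obj A₁)
          = IntLib.mk ((Scheme.Modules.pullback i).obj A₁) * (IntLib.mk A * IntLib.mk L) ^ d₀ := by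
            rw [h2, one_pow, mul_one]
        _ = (IntLib.mk ((Scheme.Modules.pullback i).obj A₁) * IntLib.mk ((Scheme.Modules.pullback i).obj L₁)) *
              IntLib.mk A ^ d₀ := by rw [h1, mul_pow]; ac_rfl
        _ = IntLib.mk A ^ d₀ := by rw [h3, one_mul]
    rw [IntLib.mk_congr (AmpleLib.pullPow i A₁ e), IntLib.mk_tensorPow, h4, ← pow_mul, IntLib.mk_tensorPow]
  let g := adj.homEquiv _ _ (κ.hom ≫ aPow a (d₀ * e) ≫ (AmpleLib.pullO i).inv)
  obtain ⟨q, hq⟩ := ht₁ e (Nat.le_succ _) g
  have hpq : (Scheme.Modules.pullback i).map q = κ.hom ≫ aPow a (d₀ * e) ≫ (AmpleLib.pullO i).inv := by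
    apply (adj.homEquiv _ _).injective
    refine Eq.trans ?_ hq
    rw [Adjunction.homEquiv_unit]
    exact (adj.unit.naturality q).symm
  have hA' := AmpleLib.isInvertible_tensorPow hP₁.invertible e
  have hPe : AmplePair (CohB1.tensorPow L₁ e) (CohB1.tensorPow A₁ e) :=
    ⟨(AmpleLib.isAmple_pow_iff hP₁.ample.1 (Nat.succ_pos t₁)).2 hP₁.ample, nonempty_pow_inv hP₁.inv e⟩
  obtain ⟨m, hm⟩ : ∃ m, d₀ * e = m + 1 :=
    ⟨d₀ * e - 1, (Nat.succ_pred_eq_of_pos (Nat.mul_pos hd₀ (Nat.succ_pos t₁))).symm⟩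
  have hgood : ∀ y : X, Good q (i y) ↔ Good a y := fun y => by
    rw [good_pullback_iff i hA' q y, hpq, stalkLin_comp, stalkLin_comp, LinearMap.coe_comp, LinearMap.coe_comp]
    rw [Function.Surjective.of_comp_iff _ ((epi_iff_stalk κ.hom).1 inferInstance y),
      Function.Surjective.of_comp_iff' ((isIso_iff_stalk (AmpleLib.pullO i).inv).1 inferInstance y), Good,
      ← surjective_aev_iff]
    exact ⟨fun h => surjective_aev_of_aPow hLA.invertible a (t := m) (hm ▸ h),
      fun h => surjective_aev_aPow hLA.invertible a h _⟩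
  have hG := ProjSerreLib.isCoh_push i hF
  obtain ⟨t₂, ht₂⟩ := dead_proj hPe q N r (Nat.le_add_left _ _) _ hG (fun x hx hx' => by
    by_cases hr : x ∈ Set.range i
    · obtain ⟨y, rfl⟩ := hr
      rw [ProjSerreLib.depth_push i hF y]
      refine hdep y ?_ ((hgood y).1 hx')
      have := hx.preimage i.continuous
      rwa [← Set.image_singleton (f := i) (a := y), Set.preimage_image_eq _ i.isClosedEmbedding.injective] at this
    · haveI := DCohLib.subsingleton_stalk_pushforward i F x hr
      rw [CAlgBasics.depth_eq_top]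
      exact le_top) j hj
  let t := t₂ + 1
  let b := aPow q t
  let B := CohB1.tensorPow (CohB1.tensorPow A₁ e) t
  have hB : PicF.IsInvertible B := AmpleLib.isInvertible_tensorPow hA' t
  haveI := isIso_unitMap ((Scheme.Modules.pushforward i).obj F)
  have h₁ : ∀ z, CurveLib.hMap (k := k) (((DCoh.tensorBi (X := P)).map b).app ((Scheme.Modules.pushforward i).obj F))
      j z = 0 := hMap_eq_zero_of_natural (act b ((Scheme.Modules.pushforward i).obj F)) _
    (𝟙 _) (inv (StalkHomLib.unitMap ((Scheme.Modules.pushforward i).obj F)))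
    (by rw [act, Category.assoc, IsIso.hom_inv_id, Category.comp_id, Category.id_comp]) j (ht₂ t (Nat.le_succ _))
  let σ := (DCohLib.symmIso P.sheaf).app
  have h₂ : ∀ z, CurveLib.hMap (k := k)
      (((DCoh.tensorBi (X := P)).obj ((Scheme.Modules.pushforward i).obj F)).map b) j z = 0 :=
    hMap_eq_zero_of_natural _ _ (((σ B).app ((Scheme.Modules.pushforward i).obj F)).hom)
      (((σ (Coh.structureModule P)).app ((Scheme.Modules.pushforward i).obj F)).hom)
      (congr_app ((DCohLib.symmIso P.sheaf).hom.naturality b) ((Scheme.Modules.pushforward i).obj F)) j h₁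
  have h₃ : ∀ z, CurveLib.hMap (k := k) ((Scheme.Modules.pushforward i).map
      (((DCoh.tensorBi (X := X)).obj F).map ((Scheme.Modules.pullback i).map b))) j z = 0 :=
    hMap_eq_zero_of_natural _ _ (DCohLib.projIso i F B).hom (DCohLib.projIso i F (Coh.structureModule P)).hom
      (DCohLib.projIso_natural_right i F b) j h₂
  have hwi : i ≫ (P ↘ Spec (CommRingCat.of k)) = X ↘ Spec (CommRingCat.of k) := hiw
  obtain ⟨E, hE⟩ := ProjSerreLib.exists_push_natural (k := k) (i := i) hwi j
  have hB' := AmpleLib.isInvertible_pullback i hB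
  have hq₁ : Coh.IsQCoh (tmod F ((Scheme.Modules.pullback i).obj B)) := (CMRegLib.isCoh_tensor_inv hF hB').1
  have hq₂ : Coh.IsQCoh (tmod F ((Scheme.Modules.pullback i).obj (Coh.structureModule P))) :=
    (CMRegLib.isCoh_tensor_inv hF (AmpleLib.isInvertible_pullback i ParaFLib.isInvertible_structureModule)).1
  have h₄ : ∀ z, CurveLib.hMap (k := k) (((DCoh.tensorBi (X := X)).obj F).map ((Scheme.Modules.pullback i).map b)) j z
      = 0 := fun z => (E _ hq₂).injective (by rw [hE _ _ hq₁ hq₂, h₃, map_zero])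
  let c : (Scheme.Modules.pullback i).obj B ⟶ Coh.structureModule X :=
    (Scheme.Modules.pullback i).map b ≫ (AmpleLib.pullO i).hom
  let τ := (DCohLib.symmIso X.sheaf).app
  have h₅ : ∀ z, CurveLib.hMap (k := k) (((DCoh.tensorBi (X := X)).map ((Scheme.Modules.pullback i).map b)).app F)
      j z = 0 :=
    hMap_eq_zero_of_natural _ _ (((τ F).app ((Scheme.Modules.pullback i).obj B)).hom)
      (((τ F).app ((Scheme.Modules.pullback i).obj (Coh.structureModule P))).hom)
      ((τ F).hom.naturality ((Scheme.Modules.pullback i).map b)) j h₄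
  have hc : ∀ z, CurveLib.hMap (k := k) (act c F) j z = 0 := fun z => by
    rw [show act c F = ((DCoh.tensorBi (X := X)).map ((Scheme.Modules.pullback i).map b)).app F ≫
        act (AmpleLib.pullO i).hom F from (act_comp _ _ F).symm, HorrocksPnLib.hMap_comp k, h₅, map_zero]
  obtain ⟨D₀, hD⟩ := exists_lift k hLA a (CurveLib.isCoh_of_isInvertible hB') (DevLib.isCoh_structureModule X) c
    (𝟙 _) fun x hx => by
      show Function.Surjective (stalkLin ((Scheme.Modules.pullback i).map b ≫ (AmpleLib.pullO i).hom) x)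
      rw [stalkLin_comp]
      exact ((isIso_iff_stalk (AmpleLib.pullO i).hom).1 inferInstance x).2.comp
        ((good_pullback_iff i hB b x).1 (surjective_aev_aPow hA' q ((hgood x).2 hx) t))
  refine ⟨D₀, fun D hD' z => ?_⟩
  obtain ⟨w, hw⟩ := hD D hD'
  rw [Category.comp_id] at hw
  rw [← hw, ← act_comp, HorrocksPnLib.hMap_comp k, hc]

end Groth.Agent.ProZeroLib
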