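import Groth.Agent.ProZeroLib.Act
import Groth.Agent.AmpleLib.Extend
import Groth.Agent.FlatLocus.ModInjFlat
import Groth.Agent.QCohLib.Criterion

/-!
# Powers of a section kill what vanishes where the section is invertible
-/

set_option autoImplicit false
set_option backward.isDefEq.respectTransparency false
set_option linter.style.haveILetI false

universe u

open CategoryTheory CategoryTheory.Limits AlgebraicGeometry TopologicalSpace Opposite
open Groth.Agent.PullbackMod Groth.Agent.DCohLib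
open Groth.Agent.ParaFLib (Gen germ_smul')

noncomputable section

namespace Groth.Agent.ProZeroLib

variable {X : Scheme.{u}} {A : X.Modules} (a : A ⟶ Coh.structureModule X)

/-- The function given by a local section. -/
def fn {W : X.Opens} (e : Γ(A, W)) : Γ(X, W) := a.app W e

theorem germ_unit_smul {W : X.Opens} {x : X} (hx : x ∈ W) (r : Γ(X, W)) :
    (Coh.structureModule X).presheaf.germ W x hx (r : Γ(Coh.structureModule X, W)) =
      X.presheaf.germ W x hx r • ParaFLib.oneG x := by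
  rw [ParaFLib.oneG, ← TopCat.Presheaf.germ_res_apply (Coh.structureModule X).presheaf (homOfLE (le_top : W ≤ ⊤)) x hx,
    ← germ_smul']
  refine congrArg _ ?_
  show r = r * (X.presheaf.map (homOfLE (le_top : W ≤ ⊤)).op).hom 1
  rw [map_one, mul_one]

theorem aev_germ {W : X.Opens} {x : X} (hx : x ∈ W) (e : Γ(A, W)) :
    aev a x (A.presheaf.germ W x hx e) = X.presheaf.germ W x hx (fn a e) := by
  show (RefOne.oEquiv x).symm _ = _
  rw [LinearEquiv.symm_apply_eq, stalkLin_germ]
  exact germ_unit_smul hx (fn a e)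

theorem span_germ {W : X.Opens} {e : Γ(A, W)} (he : Gen W e) {x : X} (hx : x ∈ W) :
    ∀ z, ∃ r : X.presheaf.stalk x, r • A.presheaf.germ W x hx e = z := fun z => (he.bijective_germ x hx).2 z

theorem pow_smul_congr {x : X} {M : Type u} [AddCommGroup M] [Module (X.presheaf.stalk x) M]
    {e e' : A.presheaf.stalk x} (he : ∀ z, ∃ r : X.presheaf.stalk x, r • e = z) {n : ℕ} {c : M}
    (h : aev a x e ^ n • c = 0) : aev a x e' ^ n • c = 0 := by
  obtain ⟨r, rfl⟩ := he e'
  rw [map_smul, smul_eq_mul, mul_pow, mul_smul, h, smul_zero]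

variable [AlgebraicGeometry.IsNoetherian X]

theorem exists_stab_local (M : X.Modules) (hM : Coh.IsCoh M) {W : X.Opens} (hW : IsAffineOpen W) (f : Γ(X, W)) :
    ∃ k : ℕ, ∀ (x : X) (hx : x ∈ W) (n : ℕ) (c : M.presheaf.stalk x),
      X.presheaf.germ W x hx f ^ n • c = 0 → X.presheaf.germ W x hx f ^ k • c = 0 := by
  haveI := hM.1
  haveI := QCohLib.isNoetherianRing_section hW
  haveI := QCohLib.finite_sections_of_isCoh hM hW
  let K : ℕ →o Submodule Γ(X, W) Γ(M, W) :=
    ⟨fun n => LinearMap.ker (LinearMap.lsmul Γ(X, W) Γ(M, W) (f ^ n)), monotone_nat_of_le_succ fun n m hm => by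
      rw [LinearMap.mem_ker, LinearMap.lsmul_apply] at hm ⊢
      rw [pow_succ', mul_smul, hm, smul_zero]⟩
  obtain ⟨k, hk⟩ := monotone_stabilizes_iff_noetherian.2 (inferInstance : IsNoetherian Γ(X, W) Γ(M, W)) K
  refine ⟨k, fun x hx n c hc => ?_⟩
  rcases le_or_gt n k with hnk | hnk
  · obtain ⟨i, rfl⟩ := Nat.exists_eq_add_of_le hnk
    rw [add_comm, pow_add, mul_smul, hc, smul_zero]
  letI := Module.compHom (M.presheaf.stalk x) (X.presheaf.germ W x hx).hom
  haveI := FlatLocus.isLocalizedModule_germL M hW x hx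
  obtain ⟨⟨s, t⟩, hst⟩ := IsLocalizedModule.surj (hW.primeIdealOf ⟨x, hx⟩).asIdeal.primeCompl
    (FlatLocus.germL M W x hx) c
  have hst' : X.presheaf.germ W x hx t.1 • c = M.presheaf.germ W x hx s := hst
  have h0 : FlatLocus.germL M W x hx (f ^ n • s) = FlatLocus.germL M W x hx 0 := by
    rw [map_zero]
    show M.presheaf.germ W x hx (f ^ n • s) = 0
    rw [germ_smul', ← hst', map_pow, smul_comm, hc, smul_zero]
  obtain ⟨g, hg⟩ := (IsLocalizedModule.eq_iff_exists (hW.primeIdealOf ⟨x, hx⟩).asIdeal.primeCompl _).1 h0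
  rw [smul_zero, Submonoid.smul_def, smul_comm] at hg
  have hmem : g.1 • s ∈ K n := hg
  rw [← hk n hnk.le] at hmem
  have h1 : f ^ k • g.1 • s = 0 := hmem
  have h2 := congrArg (M.presheaf.germ W x hx) h1
  rw [germ_smul', germ_smul', map_zero, map_pow, ← hst', ← mul_smul, ← mul_smul] at h2
  have hu : IsUnit (X.presheaf.germ W x hx g.1 * X.presheaf.germ W x hx t.1) := by
    letI : Algebra Γ(X, W) (X.presheaf.stalk x) := TopCat.Presheaf.algebra_section_stalk X.presheaf ⟨x, hx⟩
    haveI := hW.isLocalization_stalk ⟨x, hx⟩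
    exact (IsLocalization.map_units (X.presheaf.stalk x) g).mul (IsLocalization.map_units (X.presheaf.stalk x) t)
  refine hu.smul_left_cancel.1 ?_
  rw [smul_zero, ← mul_smul, ← h2]
  exact congrArg (· • c) (by ring)

/-- A power which kills works uniformly. -/
theorem exists_stab (hA : PicF.IsInvertible A) (M : X.Modules) (hM : Coh.IsCoh M) :
    ∃ k : ℕ, ∀ (x : X) (e : A.presheaf.stalk x), (∀ z, ∃ r : X.presheaf.stalk x, r • e = z) →
      ∀ (n : ℕ) (c : M.presheaf.stalk x), aev a x e ^ n • c = 0 → aev a x e ^ k • c = 0 := by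
  classical
  obtain ⟨t, W, e, hWe, hcov⟩ := AmpleLib.exists_affine_gen_cover hA (O := (⊤ : X.Opens)) isCompact_univ
  choose k hk using fun y : {y // y ∈ t} => exists_stab_local M hM (hWe y.1 y.2).1 (fn a (e y.1))
  refine ⟨Finset.univ.sup k, fun x e' he' n c hc => ?_⟩
  obtain ⟨y, hy, hxy⟩ := Set.mem_iUnion₂.1 (hcov (Opens.mem_top x))
  have h1 := hk ⟨y, hy⟩ x hxy n c (by
    rw [← aev_germ]
    exact pow_smul_congr a he' hc)
  obtain ⟨i, hi⟩ := Nat.exists_eq_add_of_le (Finset.le_sup (f := k) (Finset.mem_univ (⟨y, hy⟩ : {y // y ∈ t})))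
  refine pow_smul_congr a (span_germ (hWe y hy).2.2 hxy) ?_
  rw [aev_germ, hi, add_comm, pow_add, mul_smul, h1, smul_zero]

/-- What vanishes where `a` is invertible is killed by a power of `a`. -/
theorem exists_pow_smul_eq_zero (hA : PicF.IsInvertible A) {M N : X.Modules} (hN : Coh.IsCoh N) (D : M ⟶ N)
    (hD : ∀ x : X, Function.Surjective (aev a x) → stalkLin D x = 0) :
    ∃ k : ℕ, ∀ (x : X) (e : A.presheaf.stalk x), (∀ z, ∃ r : X.presheaf.stalk x, r • e = z) →
      ∀ m : M.presheaf.stalk x, aev a x e ^ k • stalkLin D x m = 0 := by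
  haveI := hN.1
  obtain ⟨k, hk⟩ := exists_stab a hA N hN
  refine ⟨k, fun x e he m => ?_⟩
  obtain ⟨V, hxV, σ, rfl⟩ := TopCat.Presheaf.exists_germ_eq M.presheaf m
  obtain ⟨W₀, g, hxW₀, hg⟩ := ParaFLib.exists_gen_nhd hA x
  obtain ⟨_, ⟨W, hW, rfl⟩, hxW, hle⟩ :=
    X.isBasis_affineOpens.exists_subset_of_mem_open (show x ∈ W₀ ⊓ V from ⟨hxW₀, hxV⟩) (W₀ ⊓ V).isOpen
  have hgW : Gen W (A.presheaf.map (homOfLE (le_trans hle inf_le_left : W ≤ W₀)).op g) := hg.res _
  let e₀ : Γ(A, W) := A.presheaf.map (homOfLE (le_trans hle inf_le_left : W ≤ W₀)).op g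
  let d : Γ(N, W) := N.presheaf.map (homOfLE (le_trans hle inf_le_right : W ≤ V)).op (D.app V σ)
  have hd : N.presheaf.map (homOfLE (X.basicOpen_le (fn a e₀))).op d = 0 := by
    refine TopCat.Presheaf.section_ext (⟨N.presheaf, N.isSheaf⟩ : TopCat.Sheaf Ab X) _ _ _ fun y hy => ?_
    have hyW : y ∈ W := X.basicOpen_le _ hy
    show N.presheaf.germ _ y hy _ = N.presheaf.germ _ y hy 0
    rw [map_zero, TopCat.Presheaf.germ_res_apply]
    show N.presheaf.germ W y hyW d = 0
    rw [show N.presheaf.germ W y hyW d = N.presheaf.germ V y ((le_trans hle inf_le_right : W ≤ V) hyW) (D.app V σ) from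
      TopCat.Presheaf.germ_res_apply _ _ _ _ _, ← stalkLin_germ, hD y ?_]
    · rfl
    · rw [surjective_aev_iff_isUnit a (span_germ hgW hyW), aev_germ]
      exact (X.mem_basicOpen _ y hyW).1 hy
  obtain ⟨n, hn⟩ := (QCohLib.locAt N hW).kill (fn a e₀) d hd
  refine hk x e he n _ (pow_smul_congr a (span_germ hgW hxW) ?_)
  rw [aev_germ, stalkLin_germ, ← map_pow]
  have h3 := congrArg (N.presheaf.germ W x hxW) hn
  rw [map_zero] at h3
  refine Eq.trans ?_ h3
  rw [CohBase.sc_apply, germ_smul', TopCat.Presheaf.germ_res_apply X.presheaf]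
  exact congrArg _ (TopCat.Presheaf.germ_res_apply N.presheaf _ x hxW _).symm

/-- What vanishes where `a` is invertible becomes zero after acting by a power of `a`. -/
theorem exists_kill (hA : PicF.IsInvertible A) {M N : X.Modules} (hN : Coh.IsCoh N) (D : M ⟶ N)
    (hD : ∀ x : X, Function.Surjective (aev a x) → stalkLin D x = 0) :
    ∃ k : ℕ, ∀ t, k ≤ t → act (aPow a t) M ≫ D = 0 := by
  obtain ⟨k, hk⟩ := exists_pow_smul_eq_zero a hA hN D hD
  refine ⟨k, fun t ht => hom_ext_tmod fun x p m => ?_⟩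
  obtain ⟨e, he⟩ := exists_span hA x
  obtain ⟨E, hE, hv⟩ := exists_aPow_gen a he t
  obtain ⟨r, rfl⟩ := hE p
  obtain ⟨i, rfl⟩ := Nat.exists_eq_add_of_le ht
  rw [stalkLin_comp, LinearMap.comp_apply, act_stalk, map_smul, map_smul, hv, smul_eq_mul,
    show r * aev a x e ^ (k + i) = r * aev a x e ^ i * aev a x e ^ k by rw [pow_add]; ring,
    mul_smul, hk x e he m, smul_zero]
  exact ((LinearMap.congr_fun ((eq_zero_iff_stalk (0 : _ ⟶ N)).1 rfl x) _)).symm

end Groth.Agent.ProZeroLib
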