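import Groth.Agent.ProZeroLib.Kill
import Groth.Agent.LefAmpleLib.Twist
import Groth.Agent.LefAmpleLib.Long
import Groth.Agent.LeffCoreLib.Lift
import Groth.Agent.AmpleEmb.Serre
import Groth.Agent.VBLib.Twist
import Groth.Agent.CMRegLib.Seq

/-!
# Lifting after multiplication by a power of a section
-/

set_option autoImplicit false
set_option backward.isDefEq.respectTransparency false
set_option linter.style.haveILetI false

universe u

open CategoryTheory CategoryTheory.Limits AlgebraicGeometry TopologicalSpace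
open Groth.Agent.PullbackMod Groth.Agent.DCohLib
open Groth.Agent.CurveLib (tensR secOf)

noncomputable section

namespace Groth.Agent.ProZeroLib

variable {X : Scheme.{u}}

/-- An ample module with an inverse. -/
structure AmplePair (L A : X.Modules) : Prop where
  ample : CohB1.IsAmple L
  inv : Nonempty (CohB1.tensorMod A L ≅ Coh.structureModule X)

theorem AmplePair.invertible {L A : X.Modules} (h : AmplePair L A) : PicF.IsInvertible A :=
  let ⟨η⟩ := h.inv
  AmpleLib.isInvertible_of_tensor_iso η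

theorem nonempty_pow_inv {L A : X.Modules} (h : Nonempty (CohB1.tensorMod A L ≅ Coh.structureModule X)) (t : ℕ) :
    Nonempty (CohB1.tensorMod (CohB1.tensorPow A t) (CohB1.tensorPow L t) ≅ Coh.structureModule X) := by
  obtain ⟨η⟩ := h
  rw [← IntLib.mk_eq_mk]
  have h1 : IntLib.mk A * IntLib.mk L = 1 := IntLib.mk_congr η
  show IntLib.mk (CohB1.tensorPow A t) * IntLib.mk (CohB1.tensorPow L t) = 1
  rw [IntLib.mk_tensorPow, IntLib.mk_tensorPow, ← mul_pow, h1, one_pow]

theorem stalkLin_cokernel_eq_zero {M' M : X.Modules} (π : M' ⟶ M) {x : X}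
    (h : Function.Surjective (stalkLin π x)) : stalkLin (cokernel.π π) x = 0 := by
  refine LinearMap.ext fun m => ?_
  obtain ⟨m', rfl⟩ := h m
  rw [← LinearMap.comp_apply, ← stalkLin_comp, cokernel.condition]
  exact LinearMap.congr_fun ((eq_zero_iff_stalk (0 : M' ⟶ cokernel π)).1 rfl x) m'

theorem act_unit_comp {A N : X.Modules} (b : A ⟶ Coh.structureModule X) (c : Coh.structureModule X ⟶ N)
    (h : act b (Coh.structureModule X) ≫ c = 0) : b ≫ c = 0 := by
  refine (eq_zero_iff_stalk _).2 fun x => LinearMap.ext fun p => ?_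
  have h1 := LinearMap.congr_fun ((eq_zero_iff_stalk _).1 h x)
    (stalkTensor x A (Coh.structureModule X) (p ⊗ₜ ParaFLib.oneG x))
  rw [stalkLin_comp, LinearMap.comp_apply, act_stalk, ← stalkLin_eq_aev_smul] at h1
  rw [stalkLin_comp, LinearMap.comp_apply]
  exact h1

/-- Global maps out of `O` as classes in degree zero. -/
theorem surjective_unitHom {N N' : X.Modules} (f : N ⟶ N')
    (h : Function.Surjective (Sheaf.H.map ((SheafOfModules.toSheaf X.ringCatSheaf).map f) 0)) :
    Function.Surjective (fun g : Coh.structureModule X ⟶ N => g ≫ f) := by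
  let ψ : ∀ M : X.Modules, (Coh.structureModule X ⟶ M) → Coh.HH X M 0 := fun M g => (secOf M).symm (AmpleLib.sec g)
  have hψ : ∀ M, Function.Bijective (ψ M) := fun M =>
    ⟨fun a b e => DCohLib.hom_unit_ext ((secOf M).symm.injective e),
      fun c => ⟨DCohLib.secHom M (secOf M c), by
        simp only [ψ]; rw [AmpleLib.sec_secHom, AddEquiv.symm_apply_apply]⟩⟩
  have hnat : ∀ g, ψ N' (g ≫ f) = Sheaf.H.map ((SheafOfModules.toSheaf X.ringCatSheaf).map f) 0 (ψ N g) := by
    intro g
    apply (secOf N').injective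
    simp only [ψ, AddEquiv.apply_symm_apply]
    show _ = CohBase.H0Equiv (⊤ : X.Opens) (Coh.toAb N') (CohBase.HEquiv _ 0 (Sheaf.H.map _ 0 _))
    rw [CohBase.HEquiv_map, CohBase.H0Equiv_hmap]
    show _ = f.app ⊤ (secOf N ((secOf N).symm (AmpleLib.sec g)))
    rw [AddEquiv.apply_symm_apply]
    rfl
  intro g'
  obtain ⟨z, hz⟩ := h (ψ N' g')
  obtain ⟨g, rfl⟩ := (hψ N).2 z
  exact ⟨g, (hψ N').1 ((hnat g).trans hz)⟩

variable (k : Type u) [Field k] [X.Over (Spec (CommRingCat.of k))] [IsProper (X ↘ Spec (CommRingCat.of k))]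
  {L A : X.Modules} (hLA : AmplePair L A)

include k hLA in
/-- Maps out of high negative powers lift along epimorphisms. -/
theorem eventually_surjective_hom {M' M : X.Modules} (hM' : Coh.IsCoh M') (hM : Coh.IsCoh M) (π : M' ⟶ M) [Epi π] :
    ∃ t₀ : ℕ, ∀ t, t₀ ≤ t → Function.Surjective (fun g : CohB1.tensorPow A t ⟶ M' => g ≫ π) := by
  haveI := EulerIneqLib.isNoetherian_proper (X := X) k
  have hK := (QCohLib.isCoh_kernel_cokernel π hM' hM).1
  obtain ⟨t₀, ht₀⟩ := AmpleEmb.serre_vanishing (X ↘ Spec (CommRingCat.of k)) hLA.ample hK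
  refine ⟨t₀, fun t ht g => ?_⟩
  obtain ⟨e⟩ := nonempty_pow_inv hLA.inv t
  let B := CohB1.tensorPow L t
  have hB : PicF.IsInvertible B := AmpleLib.isInvertible_tensorPow hLA.ample.1 t
  haveI := VBLib.isEquivalence_tensR (AmpleLib.comm B (CohB1.tensorPow A t) ≪≫ e)
  haveI h1 : Subsingleton (Coh.HH X ((tensR B).obj (kernel π)) 1) := ht₀ t ht 1 Nat.one_pos
  have hinj : Function.Injective
      (Sheaf.H.map ((SheafOfModules.toSheaf X.ringCatSheaf).map ((tensR B).map (kernel.ι π))) 1) := fun a b _ =>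
    h1.elim a b
  have hs := LeffCore.surjective_twisted_g (CMRegLib.shortExact_ker π) hB hinj
  obtain ⟨h, hh⟩ : ∃ h : Coh.structureModule X ⟶ (tensR B).obj M',
      h ≫ (tensR B).map π = e.inv ≫ (tensR B).map g :=
    surjective_unitHom ((tensR B).map π) hs (e.inv ≫ (tensR B).map g)
  refine ⟨(tensR B).preimage (e.hom ≫ h), (tensR B).map_injective ?_⟩
  show (tensR B).map ((tensR B).preimage (e.hom ≫ h) ≫ π) = _
  rw [Functor.map_comp, Functor.map_preimage, Category.assoc, hh, Iso.hom_inv_id_assoc]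

variable (a : A ⟶ Coh.structureModule X)

include k hLA in
/-- A section which lifts where `a` is invertible lifts after multiplying by a power of `a`. -/
theorem exists_lift {M' M : X.Modules} (hM' : Coh.IsCoh M') (hM : Coh.IsCoh M) (π : M' ⟶ M)
    (u : Coh.structureModule X ⟶ M) (hπ : ∀ x : X, Function.Surjective (aev a x) → Function.Surjective (stalkLin π x)) :
    ∃ t₀ : ℕ, ∀ t, t₀ ≤ t → ∃ w : CohB1.tensorPow A t ⟶ M', w ≫ π = aPow a t ≫ u := by
  haveI := EulerIneqLib.isNoetherian_proper (X := X) k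
  have hC := (QCohLib.isCoh_kernel_cokernel π hM' hM).2
  obtain ⟨t₁, ht₁⟩ := exists_kill a hLA.invertible hC (u ≫ cokernel.π π) fun x hx => by
    rw [stalkLin_comp, stalkLin_cokernel_eq_zero π (hπ x hx), LinearMap.zero_comp]
  have hI : Coh.IsCoh (kernel (cokernel.π π)) := (QCohLib.isCoh_kernel_cokernel (cokernel.π π) hM hC).1
  let π' : M' ⟶ kernel (cokernel.π π) := Abelian.factorThruImage π
  obtain ⟨t₂, ht₂⟩ := eventually_surjective_hom k hLA hM' hI π'
  refine ⟨max t₁ t₂, fun t ht => ?_⟩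
  have h0 : (aPow a t ≫ u) ≫ cokernel.π π = 0 := by
    rw [Category.assoc]
    exact act_unit_comp _ _ (ht₁ t ((le_max_left _ _).trans ht))
  obtain ⟨w, hw⟩ := ht₂ t ((le_max_right _ _).trans ht) (kernel.lift _ (aPow a t ≫ u) h0)
  refine ⟨w, ?_⟩
  calc w ≫ π = (w ≫ π') ≫ kernel.ι (cokernel.π π) := by
        rw [Category.assoc]; exact congrArg (w ≫ ·) (Abelian.image.fac π).symm
    _ = aPow a t ≫ u := (congrArg (· ≫ _) hw).trans (kernel.lift_ι _ _ _)

end Groth.Agent.ProZeroLib
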