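import Groth.Agent.ProZeroLib.Descent

/-!
# Cohomology and the limit over the powers of a section
-/

set_option autoImplicit false
set_option backward.isDefEq.respectTransparency false
set_option linter.style.haveILetI false

universe u

open CategoryTheory CategoryTheory.Limits AlgebraicGeometry TopologicalSpace
open Groth.Agent.PullbackMod Groth.Agent.DCohLib
open scoped TensorProduct

noncomputable section

namespace Groth.Agent.ProZeroLib

variable {X : Scheme.{u}} {A : X.Modules} (a : A ⟶ Coh.structureModule X) {F : X.Modules}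

/-- Quotients of `F` by the powers of `a`. -/
structure PowSystem where
  /-- The quotients. -/
  Q : ℕ → X.Modules
  /-- The projections. -/
  p : ∀ m, F ⟶ Q m
  /-- The transition maps. -/
  q : ∀ m, Q (m + 1) ⟶ Q m
  comp : ∀ m, p (m + 1) ≫ q m = p m
  coh : ∀ m, Coh.IsCoh (Q m)
  epi : ∀ m, Epi (p m)
  ker : ∀ (m : ℕ) (x : X) (e : A.presheaf.stalk x), (∀ z, ∃ r : X.presheaf.stalk x, r • e = z) →
    ∀ c : F.presheaf.stalk x, stalkLin (p m) x c = 0 ↔ ∃ g, c = aev a x e ^ (m + 1) • g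

variable {a} (S : PowSystem a (F := F))

theorem PowSystem.exists_trans {m : ℕ} : ∀ d, ∃ t : S.Q (m + d) ⟶ S.Q m, S.p (m + d) ≫ t = S.p m
  | 0 => ⟨𝟙 _, Category.comp_id _⟩
  | d + 1 => by
    obtain ⟨t, ht⟩ := PowSystem.exists_trans d
    exact ⟨S.q (m + d) ≫ t, by rw [← Category.assoc]; exact (congrArg (· ≫ t) (S.comp (m + d))).trans ht⟩

theorem PowSystem.ker_le (hA : PicF.IsInvertible A) {m m' : ℕ} (h : m ≤ m') (x : X) (c : F.presheaf.stalk x)
    (hc : stalkLin (S.p m') x c = 0) : stalkLin (S.p m) x c = 0 := by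
  obtain ⟨d, rfl⟩ := Nat.exists_eq_add_of_le h
  obtain ⟨t, ht⟩ := S.exists_trans (m := m) d
  rw [← ht, stalkLin_comp, LinearMap.comp_apply, hc, map_zero]

theorem PowSystem.kernel_comp (hA : PicF.IsInvertible A) {m m' : ℕ} (h : m ≤ m') :
    kernel.ι (S.p m') ≫ S.p m = 0 := by
  refine (eq_zero_iff_stalk _).2 fun x => LinearMap.ext fun c => ?_
  rw [stalkLin_comp, LinearMap.comp_apply]
  refine S.ker_le hA h x _ ?_
  rw [← LinearMap.comp_apply, ← stalkLin_comp, kernel.condition]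
  exact LinearMap.congr_fun ((eq_zero_iff_stalk (0 : kernel (S.p m') ⟶ S.Q m')).1 rfl x) c

theorem stalk_kernel_mem {M N : X.Modules} (f : M ⟶ N) (x : X) (c : (kernel f).presheaf.stalk x) :
    stalkLin f x (stalkLin (kernel.ι f) x c) = 0 := by
  rw [← LinearMap.comp_apply, ← stalkLin_comp, kernel.condition]
  exact LinearMap.congr_fun ((eq_zero_iff_stalk (0 : kernel f ⟶ N)).1 rfl x) c

theorem stalk_kernel_exists {M N : X.Modules} (f : M ⟶ N) [Epi f] (x : X) (v : M.presheaf.stalk x)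
    (hv : stalkLin f x v = 0) : ∃ c, stalkLin (kernel.ι f) x c = v :=
  (DCohLib.exact_stalkLin (ShortComplex.mk (kernel.ι f) f (kernel.condition f))
    (ShortComplex.exact_of_f_is_kernel _ (kernelIsKernel f)) x v).1 hv

variable (k : Type u) [Field k] [X.Over (Spec (CommRingCat.of k))] [IsProper (X ↘ Spec (CommRingCat.of k))]
  {L : X.Modules} (hLA : AmplePair L A) (hF : Coh.IsCoh F) {n : ℕ}
  (hdep : ∀ x : X, IsClosed ({x} : Set X) → Good a x →
    (n : ℕ∞) < LocCoh.depth (X.presheaf.stalk x) (F.presheaf.stalk x))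

include k hLA hF hdep in
/-- The kernels form a pro-zero system in cohomology. -/
theorem PowSystem.eventually_zero (m : ℕ) {j : ℕ} (hj : j ≤ n) :
    ∃ m', m ≤ m' ∧ ∀ (r : kernel (S.p m') ⟶ kernel (S.p m)), r ≫ kernel.ι (S.p m) = kernel.ι (S.p m') →
      ∀ z, CurveLib.hMap (k := k) r j z = 0 := by
  haveI := EulerIneqLib.isNoetherian_proper (X := X) k
  haveI := S.epi
  have hA := hLA.invertible
  have hR : ∀ m, Coh.IsCoh (kernel (S.p m)) := fun m => (QCohLib.isCoh_kernel_cokernel _ hF (S.coh m)).1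
  obtain ⟨k₀, hk₀⟩ := exists_stab a hA F hF
  obtain ⟨D, hD⟩ := dead_of_depth k hLA a (hR m) (r := n + 1) (fun x hx hx' => by
    haveI := (hR m).1
    haveI := hF.1
    obtain ⟨e, he⟩ := exists_span hA x
    have hu : IsUnit (aev a x e ^ (m + 1)) := ((surjective_aev_iff_isUnit a he).1 hx').pow _
    have hbij : Function.Bijective (stalkLin (kernel.ι (S.p m)) x) :=
      ⟨(mono_iff_stalk _).1 inferInstance x, fun v => stalk_kernel_exists _ x v ((S.ker m x e he v).2
        ⟨(↑hu.unit⁻¹ : X.presheaf.stalk x) • v, by rw [smul_smul, IsUnit.mul_val_inv, one_smul]⟩)⟩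
    rw [Depth.depth_congr (LinearEquiv.ofBijective _ hbij), Nat.cast_succ]
    exact Order.add_one_le_of_lt (hdep x hx hx')) (show j < n + 1 by omega)
  refine ⟨m + k₀ + D, by omega, fun r hr z => ?_⟩
  let B := CohB1.tensorPow A D
  have hπ₀ : (act (aPow a D) (kernel (S.p (m + k₀))) ≫ kernel.ι (S.p (m + k₀))) ≫ S.p (m + k₀ + D) = 0 := by
    refine hom_ext_tmod fun x p c => ?_
    obtain ⟨e, he⟩ := exists_span hA x
    obtain ⟨E, hE, hv⟩ := exists_aPow_gen a he D
    obtain ⟨s, rfl⟩ := hE p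
    obtain ⟨g, hg⟩ := (S.ker (m + k₀) x e he _).1 (stalk_kernel_mem (S.p (m + k₀)) x c)
    rw [stalkLin_comp, LinearMap.comp_apply, stalkLin_comp, LinearMap.comp_apply, act_stalk, map_smul (aev (aPow a D) x),
      smul_eq_mul, hv, map_smul (stalkLin (kernel.ι (S.p (m + k₀))) x), hg, smul_smul]
    refine ((S.ker (m + k₀ + D) x e he _).2 ⟨s • g, ?_⟩).trans
      (LinearMap.congr_fun ((eq_zero_iff_stalk (0 : tmod B (kernel (S.p (m + k₀))) ⟶ S.Q _)).1 rfl x) _).symm
    rw [smul_smul]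
    exact congrArg (· • g) (by ring)
  let π := kernel.lift (S.p (m + k₀ + D)) (act (aPow a D) (kernel (S.p (m + k₀))) ≫ kernel.ι (S.p (m + k₀))) hπ₀
  haveI : IsIso π := by
    refine (isIso_iff_stalk π).2 fun x => ?_
    obtain ⟨e, he⟩ := exists_span hA x
    obtain ⟨E, hE, hv⟩ := exists_aPow_gen a he D
    have hval : ∀ c, stalkLin (kernel.ι (S.p (m + k₀ + D))) x
        (stalkLin π x (stalkTensor x B _ (E ⊗ₜ c))) =
        aev a x e ^ D • stalkLin (kernel.ι (S.p (m + k₀))) x c := fun c => by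
      rw [← LinearMap.comp_apply, ← stalkLin_comp, kernel.lift_ι, stalkLin_comp, LinearMap.comp_apply, act_stalk, hv,
        map_smul]
    refine ⟨(injective_iff_map_eq_zero _).2 fun t ht => ?_, fun v => ?_⟩
    · obtain ⟨t, rfl⟩ := (stalkTensor x B (kernel (S.p (m + k₀)))).surjective t
      obtain ⟨c, rfl⟩ : ∃ c, E ⊗ₜ[X.presheaf.stalk x] c = t := by
        clear ht
        induction t using TensorProduct.induction_on with
        | zero => exact ⟨0, TensorProduct.tmul_zero _ _⟩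
        | tmul u v =>
          obtain ⟨s, rfl⟩ := hE u
          exact ⟨s • v, (TensorProduct.smul_tmul _ _ _).symm⟩
        | add u v hu hv =>
          obtain ⟨c, rfl⟩ := hu
          obtain ⟨c', rfl⟩ := hv
          exact ⟨c + c', TensorProduct.tmul_add _ _ _⟩
      have h0 := hval c
      rw [ht, map_zero] at h0
      obtain ⟨g, hg⟩ := (S.ker (m + k₀) x e he _).1 (stalk_kernel_mem (S.p (m + k₀)) x c)
      rw [hg, smul_smul, ← pow_add] at h0
      have h1 := hk₀ x e he _ g h0.symm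
      have h2 : stalkLin (kernel.ι (S.p (m + k₀))) x c = 0 := by
        rw [hg, show m + k₀ + 1 = (m + 1) + k₀ by omega, pow_add, mul_smul, h1, smul_zero]
      rw [show c = 0 from (mono_iff_stalk _).1 (inferInstance : Mono (kernel.ι (S.p (m + k₀)))) x
        (h2.trans (map_zero _).symm), TensorProduct.tmul_zero, map_zero]
    · obtain ⟨g, hg⟩ := (S.ker (m + k₀ + D) x e he _).1 (stalk_kernel_mem (S.p (m + k₀ + D)) x v)
      obtain ⟨c, hc⟩ := stalk_kernel_exists (S.p (m + k₀)) x (aev a x e ^ (m + k₀ + 1) • g)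
        ((S.ker (m + k₀) x e he _).2 ⟨g, rfl⟩)
      refine ⟨stalkTensor x B _ (E ⊗ₜ c), (mono_iff_stalk _).1 (inferInstance : Mono (kernel.ι (S.p (m + k₀ + D)))) x ?_⟩
      rw [hval, hc, hg, smul_smul, ← pow_add]
      exact congrArg (fun i => aev a x e ^ i • g) (by omega)
  let r₁ : kernel (S.p (m + k₀)) ⟶ kernel (S.p m) :=
    kernel.lift _ (kernel.ι _) (S.kernel_comp hA (Nat.le_add_right m k₀))
  have key : π ≫ r = ((DCoh.tensorBi (X := X)).obj B).map r₁ ≫ act (aPow a D) (kernel (S.p m)) := by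
    rw [act_natural, ← cancel_mono (kernel.ι (S.p m)), Category.assoc, hr, Category.assoc, kernel.lift_ι,
      kernel.lift_ι]
  rw [show r = inv π ≫ ((DCoh.tensorBi (X := X)).obj B).map r₁ ≫ act (aPow a D) (kernel (S.p m)) by
    rw [← key, IsIso.inv_hom_id_assoc], HorrocksPnLib.hMap_comp k, HorrocksPnLib.hMap_comp k,
    hD D le_rfl]

/-- The short complex of a level. -/
abbrev PowSystem.seq (m : ℕ) : ShortComplex X.Modules :=
  ShortComplex.mk (kernel.ι (S.p m)) (S.p m) (kernel.condition (S.p m))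

theorem PowSystem.seq_shortExact (m : ℕ) : (S.seq m).ShortExact :=
  haveI := S.epi m
  CMRegLib.shortExact_ker (S.p m)

omit [IsProper (X ↘ Spec (CommRingCat.of k))] in
theorem PowSystem.exists_trans_map (i : ℕ) (y : ∀ m, Coh.HH X (S.Q m) i)
    (hy : ∀ m, CurveLib.hMap (k := k) (S.q m) i (y (m + 1)) = y m) {m : ℕ} :
    ∀ d, ∃ t : S.Q (m + d) ⟶ S.Q m, S.p (m + d) ≫ t = S.p m ∧ CurveLib.hMap (k := k) t i (y (m + d)) = y m
  | 0 => ⟨𝟙 _, Category.comp_id _, HorrocksPnLib.hMap_id k _ _ _⟩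
  | d + 1 => by
    obtain ⟨t, ht, ht'⟩ := PowSystem.exists_trans_map i y hy d
    refine ⟨S.q (m + d) ≫ t, by rw [← Category.assoc]; exact (congrArg (· ≫ t) (S.comp (m + d))).trans ht, ?_⟩
    rw [HorrocksPnLib.hMap_comp k]
    exact (congrArg _ (hy (m + d))).trans ht'

include k hLA hF hdep in
/-- Cohomology maps injectively to the limit up to the depth. -/
theorem PowSystem.injective_limit {i : ℕ} (hi : i ≤ n) (x : Coh.HH X F i)
    (hx : ∀ m, CurveLib.hMap (k := k) (S.p m) i x = 0) : x = 0 := by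
  obtain ⟨m', -, h⟩ := S.eventually_zero k hLA hF hdep 0 hi
  obtain ⟨w, rfl⟩ : ∃ w, CurveLib.hMap (k := k) (kernel.ι (S.p m')) i w = x := by
    have hxm : x ∈ LinearMap.ker (CurveLib.hMap (k := k) (S.seq m').g i) := hx m'
    rw [← CurveLib.range_hMap_f (S.seq_shortExact m')] at hxm
    exact hxm
  let r : kernel (S.p m') ⟶ kernel (S.p 0) :=
    kernel.lift _ (kernel.ι _) (S.kernel_comp hLA.invertible (Nat.zero_le _))
  rw [← kernel.lift_ι (S.p 0) (kernel.ι (S.p m')) (S.kernel_comp hLA.invertible (Nat.zero_le m')),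
    HorrocksPnLib.hMap_comp k, h r (kernel.lift_ι _ _ _), map_zero]

include k hLA hF hdep in
/-- Compatible families come from classes below the depth. -/
theorem PowSystem.surjective_limit {i : ℕ} (hi : i < n) (y : ∀ m, Coh.HH X (S.Q m) i)
    (hy : ∀ m, CurveLib.hMap (k := k) (S.q m) i (y (m + 1)) = y m) :
    ∃ x : Coh.HH X F i, ∀ m, CurveLib.hMap (k := k) (S.p m) i x = y m := by
  have hA := hLA.invertible
  have hδ0 : ∀ m, CurveLib.hδ (k := k) (S.seq_shortExact m) i (y m) = 0 := fun m => by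
    obtain ⟨m', hm', h⟩ := S.eventually_zero k hLA hF hdep m (show i + 1 ≤ n by omega)
    obtain ⟨d, rfl⟩ := Nat.exists_eq_add_of_le hm'
    obtain ⟨t, ht, ht'⟩ := S.exists_trans_map k i y hy (m := m) d
    let r : kernel (S.p (m + d)) ⟶ kernel (S.p m) :=
      kernel.lift _ (kernel.ι _) (S.kernel_comp hA hm')
    let θ : S.seq (m + d) ⟶ S.seq m :=
      ⟨r, 𝟙 F, t, (kernel.lift_ι _ _ _).trans (Category.comp_id _).symm,
        (Category.id_comp _).trans ht.symm⟩
    rw [← ht']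
    refine (hδ_natural k (S.seq_shortExact m) (S.seq_shortExact (m + d)) θ i (y (m + d))).trans ?_
    exact h r (kernel.lift_ι _ _ _) _
  have hlift : ∀ m, ∃ x, CurveLib.hMap (k := k) (S.p m) i x = y m := fun m => by
    have hm : y m ∈ LinearMap.ker (CurveLib.hδ (k := k) (S.seq_shortExact m) i) := hδ0 m
    rw [← CurveLib.range_hMap_g (S.seq_shortExact m) i] at hm
    exact hm
  choose x hx using hlift
  obtain ⟨m₀, -, h₀⟩ := S.eventually_zero k hLA hF hdep 0 hi.le
  refine ⟨x m₀, fun m => ?_⟩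
  let d := m₀
  obtain ⟨t, ht, ht'⟩ := S.exists_trans_map k i y hy (m := m) d
  obtain ⟨t₂, ht₂, ht₂'⟩ := S.exists_trans_map k i y hy (m := m₀) m
  have hdiff : CurveLib.hMap (k := k) (S.p m₀) i (x m₀ - x (m₀ + m)) = 0 := by
    rw [map_sub, hx, ← ht₂, HorrocksPnLib.hMap_comp k, hx, ht₂', sub_self]
  obtain ⟨w, hw⟩ : ∃ w, CurveLib.hMap (k := k) (kernel.ι (S.p m₀)) i w = x m₀ - x (m₀ + m) := by
    have hxm : x m₀ - x (m₀ + m) ∈ LinearMap.ker (CurveLib.hMap (k := k) (S.seq m₀).g i) := hdiff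
    rw [← CurveLib.range_hMap_f (S.seq_shortExact m₀)] at hxm
    exact hxm
  have h1 : x m₀ = x (m₀ + m) := by
    rw [← sub_eq_zero, ← hw, ← kernel.lift_ι (S.p 0) (kernel.ι (S.p m₀)) (S.kernel_comp hA (Nat.zero_le m₀)),
      HorrocksPnLib.hMap_comp k, h₀ _ (kernel.lift_ι _ _ _), map_zero]
  rw [h1]
  have e : m₀ + m = m + d := Nat.add_comm _ _
  have h2 : ∀ M, M = m + d → CurveLib.hMap (k := k) (S.p m) i (x M) = y m := by
    rintro _ rfl
    rw [← ht, HorrocksPnLib.hMap_comp k, hx, ht']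
  exact h2 _ e

end Groth.Agent.ProZeroLib
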