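import Groth.Agent.ProZeroLib.Split
import Groth.Agent.ProjSerreLib.Ext
import Groth.Agent.ProjSerreLib.Criterion
import Groth.Agent.ProjSerreLib.ClosedSub
import Groth.Agent.FibreDepth.Local
import Groth.Agent.S0321

/-!
# On projective space, powers of a section act by zero below the depth
-/

set_option autoImplicit false
set_option backward.isDefEq.respectTransparency false
set_option linter.style.haveILetI false

universe u

open CategoryTheory CategoryTheory.Limits AlgebraicGeometry TopologicalSpace
open Groth.Agent.PullbackMod Groth.Agent.DCohLib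

noncomputable section

namespace Groth.Agent.ProZeroLib

variable {k : Type u} [Field k] {N : ℕ}


theorem free_of_depth {R : Type u} [CommRing R] [IsRegularLocalRing R] (M : Type u) [AddCommGroup M] [Module R M]
    [Module.Finite R M] (d : ℕ) (hd : ringKrullDim R = d) (h : (d : ℕ∞) ≤ LocCoh.depth R M) : Module.Free R M := by
  have h1 : HasProjectiveDimensionLT (ModuleCat.of R M) (0 + 1) :=
    (FibreDepth.projDimLT_iff_le_depth d hd 0).2 (by rwa [Nat.sub_zero])
  rw [zero_add] at h1
  haveI := projective_iff_hasProjectiveDimensionLT_one.2 h1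
  haveI : Module.Projective R M := (IsProjective.iff_projective M).2 inferInstance
  exact Module.free_of_flat_of_isLocalRing

theorem dim_le_depth_regular {R : Type u} [CommRing R] [IsRegularLocalRing R] (d : ℕ) (hd : ringKrullDim R = d) :
    (d : ℕ∞) ≤ LocCoh.depth R R := by
  have h1 : HasProjectiveDimensionLT (ModuleCat.of R R) (0 + 1) := by
    rw [zero_add, ← projective_iff_hasProjectiveDimensionLT_one, ← IsProjective.iff_projective]
    infer_instance
  have h2 := (FibreDepth.projDimLT_iff_le_depth (A := R) (M := R) d hd 0).1 h1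
  rwa [Nat.sub_zero] at h2

/-- An epimorphism from a free twist without cohomology below the dimension. -/
theorem exists_epi_vanish (hN : 0 < N) {G : (CohB1.ProjSpace N k).Modules} (hG : Coh.IsCoh G) :
    ∃ (E : (CohB1.ProjSpace N k).Modules) (π : E ⟶ G), Epi π ∧ FlatMod.IsFinLocFree E ∧
      ∀ j, j < N → Subsingleton (Coh.HH (CohB1.ProjSpace N k) E j) := by
  haveI := CMRegLib.isNoetherian_projSpace (k := k) (n := N)
  obtain ⟨m₀, hm₀⟩ := HorrocksPnLib.exists_regular hG
  obtain ⟨b, φ, hφ, -⟩ := CMRegLib.exists_resolution hG _ (CMRegLib.regular_mono hG (le_max_left m₀ 1) hm₀)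
  refine ⟨_, φ, hφ, DCohLib.isFinLocFree_sigma b _ fun _ => ProjSerreLib.flf_O _, fun q hq => ?_⟩
  refine ProjSerreLib.subsingleton_sigma _ fun _ => ProjSerreLib.subsingleton_twist hN _ ?_
  rcases Nat.eq_zero_or_pos q with rfl | hq0
  · exact Or.inr ⟨rfl, by omega⟩
  · exact Or.inl ⟨by omega, Or.inr (by omega)⟩

variable {L A : (CohB1.ProjSpace N k).Modules} (hLA : AmplePair L A) (a : A ⟶ Coh.structureModule (CohB1.ProjSpace N k))

include hLA in
/-- Below the depth at closed points where `a` is invertible, powers of `a` act by zero. -/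
theorem dead_proj : ∀ (d r : ℕ), N ≤ r + d → ∀ G : (CohB1.ProjSpace N k).Modules, Coh.IsCoh G →
    (∀ x : (CohB1.ProjSpace N k), IsClosed ({x} : Set (CohB1.ProjSpace N k)) → Good a x →
      (r : ℕ∞) ≤ LocCoh.depth ((CohB1.ProjSpace N k).presheaf.stalk x) (G.presheaf.stalk x)) →
    ∀ j, j < r → Dead k a G j := by
  haveI := CMRegLib.isNoetherian_projSpace (k := k) (n := N)
  intro d
  induction d with
  | zero =>
    intro r hr G hG hdep j hj
    haveI := hG.1
    by_cases hjN : j < N
    · obtain ⟨E, π, hπ, hE, hvan⟩ := exists_epi_vanish (by omega) hG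
      haveI := hπ
      haveI := hvan j hjN
      refine dead_of_free k hLA a (CurveLib.isCoh_of_isFinLocFree hE) hG π j fun x hx hx' => ?_
      haveI := ProjSerreLib.regular_stalk (k := k) (n := N) x
      haveI := finite_stalk_of_isFT hG.2 x
      exact free_of_depth _ N (ProjSerreLib.dim_closed_point hx)
        ((Nat.cast_le.2 (show N ≤ r by omega)).trans (hdep x hx hx'))
    · refine dead_of_zero k hLA a hG j fun x hx hx' => ?_
      haveI := ProjSerreLib.regular_stalk (k := k) (n := N) x
      haveI := finite_stalk_of_isFT hG.2 x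
      by_contra hns
      haveI := not_subsingleton_iff_nontrivial.1 hns
      have h2 : (r : ℕ∞) ≤ (N : ℕ∞) :=
        (hdep x hx hx').trans (FibreDepth.depth_le_dim N (ProjSerreLib.dim_closed_point hx))
      have : r ≤ N := Nat.cast_le.1 h2
      omega
  | succ d ih =>
    intro r hr G hG hdep j hj
    by_cases hrN : N ≤ r + d
    · exact ih r hrN G hG hdep j hj
    obtain ⟨E, π, hπ, hE, hvan⟩ := exists_epi_vanish (show 0 < N by omega) hG
    haveI := hπ
    have hEc := CurveLib.isCoh_of_isFinLocFree hE
    have hK := (QCohLib.isCoh_kernel_cokernel π hEc hG).1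
    haveI : Subsingleton (Coh.HH (CohB1.ProjSpace N k) (ShortComplex.mk (kernel.ι π) π (kernel.condition π)).X₂ j) :=
      hvan j (by omega)
    refine dead_step k hLA a (CMRegLib.shortExact_ker π) j (ih (r + 1) (by omega) _ hK (fun x hx hx' => ?_) (j + 1)
      (by omega))
    haveI := ProjSerreLib.regular_stalk (k := k) (n := N) x
    haveI := hG.1
    haveI := hEc.1
    haveI := hK.1
    haveI := finite_stalk_of_isFT hG.2 x
    haveI := finite_stalk_of_isFT hEc.2 x
    haveI := finite_stalk_of_isFT hK.2 x
    obtain ⟨hfree, -⟩ := DCohLib.free_finite_stalk_of_flf hE x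
    haveI := hfree
    have hEd : ((r + 1 : ℕ) : ℕ∞) ≤ LocCoh.depth ((CohB1.ProjSpace N k).presheaf.stalk x) (E.presheaf.stalk x) :=
      ProjSerreLib.le_depth_of_free _ _ ((Nat.cast_le.2 (show r + 1 ≤ N by omega)).trans
        (dim_le_depth_regular N (ProjSerreLib.dim_closed_point hx)))
    have h := (S0321.result ((CohB1.ProjSpace N k).presheaf.stalk x) (IsLocalRing.maximalIdeal _)
      ((kernel π).presheaf.stalk x) (E.presheaf.stalk x) (G.presheaf.stalk x) (stalkLin (kernel.ι π) x) (stalkLin π x)
      ((mono_iff_stalk _).1 inferInstance x) ((epi_iff_stalk _).1 hπ x)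
      (DCohLib.exact_stalkLin (ShortComplex.mk (kernel.ι π) π (kernel.condition π))
        (CMRegLib.shortExact_ker π).exact x)).2.2
    refine (le_min hEd ?_).trans h
    rw [Nat.cast_add, Nat.cast_one]
    exact add_le_add_left (hdep x hx hx') 1

end Groth.Agent.ProZeroLib
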