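import Groth.Agent.ProZeroLib.Limit
import Groth.Agent.JacLib.InverseIdeal
import Groth.Agent.HilbObsLib.Ideal
import Groth.Agent.InfNbhdLib.Scheme
import Groth.Agent.LefAmpleLib.QuotMap
import Groth.Agent.DevLib.Closed
import Groth.Agent.AmpleEmb.Inverse

/-!
# The zero scheme of a section of an ample module
-/

set_option autoImplicit false
set_option backward.isDefEq.respectTransparency false
set_option linter.style.haveILetI false

universe u

open CategoryTheory CategoryTheory.Limits AlgebraicGeometry TopologicalSpace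
open Groth.Agent.PullbackMod Groth.Agent.DCohLib
open scoped TensorProduct

noncomputable section

namespace Groth.Agent.ProZeroLib

variable {X : Scheme.{u}}

theorem stalk_inv_unitMap (A : X.Modules) [IsIso (StalkHomLib.unitMap A)] (x : X) (p : A.presheaf.stalk x) :
    stalkLin (inv (StalkHomLib.unitMap A)) x p = stalkTensor x (Coh.structureModule X) A (ParaFLib.oneG x ⊗ₜ p) := by
  refine ((isIso_iff_stalk (StalkHomLib.unitMap A)).1 inferInstance x).1 ?_
  rw [← LinearMap.comp_apply, ← stalkLin_comp, IsIso.inv_hom_id, stalkLin_id]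
  exact (StalkHomLib.unitMap_stalk A x p).symm

/-- The dual of a section of an ample module cuts out the zero scheme. -/
theorem exists_dual {L : X.Modules} (hL : CohB1.IsAmple L) (s : Coh.structureModule X ⟶ L) :
    ∃ (A : X.Modules) (a : A ⟶ Coh.structureModule X), AmplePair L A ∧
      ∀ (x : X) (e : A.presheaf.stalk x), (∀ z, ∃ r : X.presheaf.stalk x, r • e = z) →
        IntMult.stalkIdeal (PicF2.zeroScheme L s) x = Ideal.span {aev a x e} := by
  obtain ⟨A, hA, ⟨η⟩⟩ := AmpleEmb.exists_isInverseOf hL.1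
  haveI := isIso_unitMap A
  let a : A ⟶ Coh.structureModule X :=
    inv (StalkHomLib.unitMap A) ≫ ((DCoh.tensorBi (X := X)).map s).app A ≫ η.hom
  refine ⟨A, a, ⟨hL, ⟨AmpleLib.comm A L ≪≫ η⟩⟩, fun x e he => ?_⟩
  have hK := JacLib.isCanSect_zeroScheme hL.1 (AmpleLib.sec s)
  rw [AmpleLib.secHom_sec] at hK
  obtain ⟨W, hx, l, c, hl, hI, hsl⟩ := hK x
  rw [IdealStalkLib.stalkIdeal_eq _ W x hx, hI, Ideal.map_span, Set.image_singleton]
  let l' := L.presheaf.germ W.1 x hx l
  have hs : stalkLin s x (ParaFLib.oneG x) = X.presheaf.germ W.1 x hx c • l' := by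
    rw [show stalkLin s x (ParaFLib.oneG x) = L.presheaf.germ ⊤ x trivial (AmpleLib.sec s) from
      stalkLin_germ s (U := ⊤) x trivial (1 : Γ(X, ⊤)),
      ← TopCat.Presheaf.germ_res_apply L.presheaf (homOfLE (le_top : W.1 ≤ ⊤)) x hx, hsl, ParaFLib.germ_smul']
  obtain ⟨w, hw⟩ : ∃ w, stalkLin η.hom x (stalkTensor x L A (l' ⊗ₜ e)) = w • ParaFLib.oneG x :=
    ⟨(RefOne.oEquiv x).symm (stalkLin η.hom x (stalkTensor x L A (l' ⊗ₜ e))),
      ((RefOne.oEquiv x).apply_symm_apply (stalkLin η.hom x (stalkTensor x L A (l' ⊗ₜ e)))).symm⟩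
  have hval : aev a x e = X.presheaf.germ W.1 x hx c * w := by
    show (RefOne.oEquiv x).symm (stalkLin a x e) = _
    rw [LinearEquiv.symm_apply_eq]
    show stalkLin (inv (StalkHomLib.unitMap A) ≫ ((DCoh.tensorBi (X := X)).map s).app A ≫ η.hom) x e = _
    rw [stalkLin_comp, stalkLin_comp, LinearMap.comp_apply, LinearMap.comp_apply, stalk_inv_unitMap,
      stalkTensor_natural_left, LinearMap.rTensor_tmul, hs, ← TensorProduct.smul_tmul', map_smul, map_smul]
    exact (congrArg (_ • ·) hw).trans (smul_smul _ _ _)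
  have hwu : IsUnit w := by
    obtain ⟨t, ht⟩ := ((isIso_iff_stalk η.hom).1 inferInstance x).2 (ParaFLib.oneG x)
    obtain ⟨t, rfl⟩ := (stalkTensor x L A).surjective t
    obtain ⟨r, rfl⟩ : ∃ r : X.presheaf.stalk x, r • (l' ⊗ₜ e) = t := by
      clear ht
      induction t using TensorProduct.induction_on with
      | zero => exact ⟨0, zero_smul _ _⟩
      | tmul u v =>
        obtain ⟨r₁, rfl⟩ := (hl.bijective_germ x hx).2 u
        obtain ⟨r₂, rfl⟩ := he v
        exact ⟨r₁ * r₂, by rw [mul_smul, ← TensorProduct.tmul_smul, TensorProduct.smul_tmul']⟩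
      | add u v hu hv =>
        obtain ⟨r, rfl⟩ := hu
        obtain ⟨r', rfl⟩ := hv
        exact ⟨r + r', add_smul _ _ _⟩
    rw [map_smul, map_smul] at ht
    replace ht := ((congrArg (r • ·) hw).trans (smul_smul _ _ _)).symm.trans ht
    refine IsUnit.of_mul_eq_one r ?_
    rw [mul_comm]
    exact (ParaFLib.bijective_oneG x).1 (ht.trans (one_smul _ _).symm)
  rw [hval]
  exact (Ideal.span_singleton_mul_right_unit hwu _).symm

/-- The reductions modulo the powers of an ideal, as quotients by powers. -/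
def idealSystem [IsLocallyNoetherian X] {A : X.Modules} (a : A ⟶ Coh.structureModule X) (I : X.IdealSheafData)
    (hI : ∀ (x : X) (e : A.presheaf.stalk x), (∀ z, ∃ r : X.presheaf.stalk x, r • e = z) →
      IntMult.stalkIdeal I x = Ideal.span {aev a x e}) :
    PowSystem a (F := Coh.structureModule X) where
  Q m := ClSub.quotMod (I ^ (m + 1))
  p m := ClSub.toSubscheme (I ^ (m + 1))
  q m := Lef.quotMap (Lef.pow_succ_le I m)
  comp m := LefAmpleLib.toSubscheme_quotMap _
  coh m := DevLib.isCoh_pushforward_closed _ (DevLib.isCoh_structureModule _)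
  epi m := HilbObsLib.epi_toSubscheme _
  ker m x e he c := by
    obtain ⟨r, rfl⟩ := (ParaFLib.bijective_oneG x).2 c
    haveI := HilbObsLib.epi_toSubscheme (I ^ (m + 1))
    rw [show stalkLin (ClSub.toSubscheme (I ^ (m + 1))) x (r • ParaFLib.oneG x) = 0 ↔
        r ∈ IntMult.stalkIdeal (I ^ (m + 1)) x from
      ⟨fun h => (HilbObsLib.mem_range_idealModι _ x r).1 (stalk_kernel_exists _ x _ h), fun h => by
        obtain ⟨n, hn⟩ := (HilbObsLib.mem_range_idealModι _ x r).2 h
        rw [← hn]
        exact stalk_kernel_mem _ x n⟩,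
      InfNbhdLib.stalkIdeal_pow, hI x e he, Ideal.span_singleton_pow, Ideal.mem_span_singleton']
    constructor
    · rintro ⟨g, rfl⟩
      exact ⟨g • ParaFLib.oneG x, by rw [smul_smul, mul_comm]⟩
    · rintro ⟨g, hg⟩
      obtain ⟨g', rfl⟩ := (ParaFLib.bijective_oneG x).2 g
      rw [smul_smul] at hg
      exact ⟨g', (mul_comm _ _).trans ((ParaFLib.bijective_oneG x).1 hg).symm⟩

theorem good_iff_notMem_support {A : X.Modules} (hA : PicF.IsInvertible A) (a : A ⟶ Coh.structureModule X)
    (I : X.IdealSheafData)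
    (hI : ∀ (x : X) (e : A.presheaf.stalk x), (∀ z, ∃ r : X.presheaf.stalk x, r • e = z) →
      IntMult.stalkIdeal I x = Ideal.span {aev a x e}) (x : X) :
    Good a x ↔ x ∉ (I.support : Set X) := by
  obtain ⟨e, he⟩ := exists_span hA x
  rw [Good, surjective_aev_iff_isUnit a he, ← Ideal.span_singleton_eq_top, ← hI x e he]
  refine ⟨fun h hs => ?_, fun h => IdealMulLib.stalkIdeal_eq_top I h⟩
  have := IdealStalkLib.stalkIdeal_le_maximal I hs
  rw [h] at this
  exact (IsLocalRing.maximalIdeal.isMaximal (X.presheaf.stalk x)).ne_top (top_le_iff.1 this)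

end Groth.Agent.ProZeroLib
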